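import Cfsg.Agent.Lib.Known.D4Square.Levi
import Cfsg.Agent.Lib.Chev.Twist.D4Torus.Cent

/-!
Every element of `³D₄` outside the parabolic subgroup lies in a covered cell.
-/

set_option autoImplicit false
set_option maxRecDepth 20000
set_option maxHeartbeats 1000000

namespace CfsgLib.Known.D4Square

open Cfsg.Lie CfsgLib.Chev CfsgLib.Chev.TwD4
open CfsgLib.Chev.TwD4.Torus (Fq mem_Fq nrm pairGrp mem_pairGrp sPart tor img)
open CfsgLib.Chev.TwD4.Mult (RQ LQ eB eB_mem eB_add)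
open CfsgLib.Known.G2Square (gl2 up low gl_ext dtm dtm_ne dtm_mul up_inv low_inv dtm_up dtm_low
  mul_low_entries)

universe v

theorem table : ∀ a : Fin 12, ∃ i ∈ [[], Wb], ∃ R ∈ [[], Wa, W23, Wp], ∃ j ∈ [[], Wb],
    ∀ s : Fin 24, pv (i ++ R ++ j) s.val = img a.val s.val := by decide +kernel

variable {K : Type v} [Field K] [Fintype K] {q : ℕ} (C : Ctx K q) (X : XData C)
include C

/-- The cells of the short simple reflection. -/
theorem XData.cl_Wa (p : pairGrp C) : X.Cl C (nB C (-1)) p := by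
  obtain ⟨pt, hpt, hfst, -, -⟩ := tor_pair C p.1.1⁻¹
  intro u hu
  have e : nB C (-1) * Lh C p =
      nB C (((-p.1.1⁻¹ : Kˣ) : K)) * Lh C (pt * p) := by
    rw [map_mul, hpt, ← mul_assoc, Units.val_neg, ← nB_neg_one]
  rw [e]
  obtain ⟨hm, hP⟩ := nB_perm C (-p.1.1⁻¹ : Kˣ).ne_zero
  refine X.cl_single C (eB_Qp C _) (eM_Qm C _) rfl
    (Or.inl fun c => move_Qp C (nB_mem C _) hm hP (.inl rfl) word_data.2.2.2.2.1 c) ?_ u hu
  show pt.1.1 * p.1.1 = 1
  rw [hfst, inv_mul_cancel]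

/-- The cells of the pair, in characteristic two. -/
theorem XData.cl_pair_two (s : Kˣ) (h2 : (2 : Fq C) = 0) {B : GL (Fin 2) (Fq C)} (hB : dtm B = 1)
    (hC : ∀ (E : GL (Fin 2) (Fq C)) (u : Fq C), u ≠ 0 → dtm E = 1 → E 0 0 = u * B 1 0 →
      E 0 1 = u * B 1 1 → E 1 0 = B 0 0 / u → E 1 1 = B 0 1 / u → Good E) :
    X.Cl C (nB C (s : K) * nU chevD4 23 (-1)) (p1 C B hB) := by
  classical
  obtain ⟨hperm, hA, hY, hc1, a0, -, a2, a3, -⟩ := fall_data
  obtain ⟨hwm, hwP⟩ := wG_perm C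
  obtain ⟨hm1, hP1⟩ := nB_perm C (one_ne_zero (α := K))
  have hneg : (-1 : K) ≠ 0 := neg_ne_zero.2 one_ne_zero
  obtain ⟨hm2, hP2⟩ := nB_perm C hneg
  set pw := p1 C (wG C) (dtm_wG C) with hpw
  set M := nB C 1 * Lh C pw with hM
  have hMG : M ∈ twistedD4 K q := mul_mem (nB_mem C _) (Lh_mem C _)
  have hMm : M ∈ chevD4.monomialSubgroup K := mul_mem hm1 hwm
  have hMP : PermAct M (sW chevD4 (Wa ++ Wb)) := by
    rw [sW_append]; exact facts.permAct_mul hP1 hwP
  set N := nB C (s : K) * nU chevD4 23 (-1) with hN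
  have hu1 : (-1 : K) ^ q = -1 := by rw [← C.hf, map_neg, map_one]
  have hNG : N ∈ twistedD4 K q := mul_mem (nB_mem C _) (n23_mem C hu1)
  obtain ⟨hNm, hNP⟩ : N ∈ chevD4.monomialSubgroup K ∧ PermAct N (sW chevD4 Wp) := by
    rw [hN, show Wp = Wa ++ W23 from rfl, sW_append]
    exact ⟨mul_mem (nB_perm C s.ne_zero).1 (n23_perm C hneg).1,
      facts.permAct_mul (nB_perm C s.ne_zero).2 (n23_perm C hneg).2⟩
  -- the monomial element of the third reflection
  set n9 := M * nB C (-1) * M⁻¹ with hn9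
  have hd : n9⁻¹ * (N * Lh C pw) ∈ chevD4.diagonalSubgroup K := by
    have hm : n9 ∈ chevD4.monomialSubgroup K := mul_mem (mul_mem hMm hm2) (inv_mem hMm)
    refine facts.mem_diagonal_of_permAct (mul_mem (inv_mem hm) (mul_mem hNm hwm)) ?_
    have hP9 : PermAct n9 (sW chevD4 (Wp ++ Wb)) := by
      rw [← sW_ext hperm, sW_append, facts.sW_reverse, sW_append]
      exact facts.permAct_mul (facts.permAct_mul hMP hP2) (facts.permAct_inv hMm hMP)
    have := facts.permAct_mul (facts.permAct_inv hm hP9) (facts.permAct_mul hNP hwP)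
    rwa [← sW_append, inv_mul_cancel] at this
  obtain ⟨a, -, pd, -, -, hpd, hfst, -, pd01, pd10⟩ := diag_pair C hd
    (mul_mem (inv_mem (mul_mem (mul_mem hMG (nB_mem C _)) (inv_mem hMG)))
      (mul_mem hNG (Lh_mem C _)))
  -- conjugating the torus
  have hex : ∀ t : Kˣ, ∃ p : pairGrp C, Lh C p = M * tor C t * M⁻¹ ∧ p.1.2 0 1 = 0 ∧
      p.1.2 1 0 = 0 := by
    intro t
    obtain ⟨pt, hpt, -⟩ := tor_pair C t
    obtain ⟨_, _, p, -, -, hp, -, -, h01, h10⟩ := diag_pair C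
      (facts.conj_diagonal hMm (facts.mem_diagonal_iff.2 ⟨C.vec t 1, rfl⟩))
      (mul_mem (mul_mem hMG (show tor C t ∈ twistedD4 K q from hpt ▸ Lh_mem C pt))
        (inv_mem hMG))
    exact ⟨p, hp, h01, h10⟩
  choose pt hpt pt01 pt10 using hex
  have hmul : ∀ x y, pt (x * y) = pt x * pt y := fun x y => Lh_injective C (by
    rw [map_mul, hpt, hpt, hpt, tor_mul]; group)
  have hinj : Function.Injective fun t => (pt t).1.1 := by
    intro x y hxy
    obtain ⟨r, hr, rfl⟩ : ∃ r, r = x / y ∧ r * y = x := ⟨x / y, rfl, div_mul_cancel x y⟩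
    simp only at hxy
    have h1 : (pt r).1.1 = 1 := by
      rw [hmul] at hxy
      exact mul_eq_right.1 hxy
    obtain ⟨b, -, -, hb⟩ := diag_Lh C (pt01 r) (pt10 r)
    rw [h1, hpt] at hb
    obtain ⟨k, hk, hk1, -⟩ := hMP ⟨18, lt24 (by norm_num)⟩
    rw [sW_val] at hk1
    have e : M * (tor C r * xU chevD4 18 1 * (tor C r)⁻¹) * M⁻¹ =
        M * tor C r * M⁻¹ * (M * xU chevD4 18 1 * M⁻¹) * (M * tor C r * M⁻¹)⁻¹ := by group
    rw [hk1 1, hb, tor, facts.hT_conj_xU _ (lt24 (by norm_num)),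
      facts.hT_conj_xU _ (pv_lt _ (by norm_num)), tor_char, a0, a2, a3, hk1] at e
    have h4 : chevD4.rank = 4 := tables.2.1
    simp only [h4, Finset.prod_range_succ, Finset.prod_range_zero, one_mul, Ctx.vec, hc1] at e
    have e2 := facts.xU_left_inj (pv_lt _ (by norm_num)) e
    simp at e2
    have hr2 : (r : K) ^ 2 = 1 := by
      refine mul_left_cancel₀ hk ?_
      rw [mul_one]
      linear_combination e2
    have h2K : (2 : K) = 0 := by
      exact congrArg (Subfield.subtype (Fq C)) h2 |>.trans (map_zero _) |> (map_ofNat (Subfield.subtype (Fq C)) 2).symm.trans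
    have : r = 1 := Units.ext (sub_eq_zero.1 (mul_self_eq_zero.1 (show
      ((r : K) - 1) * ((r : K) - 1) = 0 by linear_combination hr2 + (1 - (r : K)) * h2K)))
    rw [this, one_mul]
  obtain ⟨t, ht⟩ := Finite.surjective_of_injective hinj a⁻¹
  simp only at ht
  -- the matrix
  set E := (pt t * pd).1.2 * ((wG C)⁻¹ * B) with hEdef
  set p' := pt t * pd * (pw⁻¹ * p1 C B hB) with hp'
  have hf : p'.1.1 = 1 := by
    show (pt t).1.1 * pd.1.1 * ((1 : Kˣ)⁻¹ * 1) = 1
    rw [ht, hfst, inv_one, mul_one, mul_one, inv_mul_cancel]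
  obtain ⟨hdE, hp1⟩ := eq_p1 C hf
  change dtm E = 1 at hdE
  change p1 C E hdE = p' at hp1
  obtain ⟨D, hD⟩ : ∃ D, D = (pt t * pd).1.2 := ⟨_, rfl⟩
  have hD01 : D 0 1 = 0 := by
    rw [hD]
    show ((pt t).1.2 * pd.1.2) 0 1 = 0
    simp [Matrix.mul_apply, Fin.sum_univ_two, pt01, pd01]
  have hD10 : D 1 0 = 0 := by
    rw [hD]
    show ((pt t).1.2 * pd.1.2) 1 0 = 0
    simp [Matrix.mul_apply, Fin.sum_univ_two, pt10, pd10]
  have hwi : (wG C)⁻¹ = up (-1) * low 1 * up (-1) := by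
    rw [wG, mul_inv_rev, mul_inv_rev, up_inv, low_inv, neg_neg, mul_assoc]
  have hentries : E 0 0 = -(D 0 0 * B 1 0) ∧ E 0 1 = -(D 0 0 * B 1 1) ∧ E 1 0 = D 1 1 * B 0 0 ∧
      E 1 1 = D 1 1 * B 0 1 := by
    rw [hEdef, ← hD, hwi]
    simp [up, low, Matrix.mul_apply, Matrix.vecMul, dotProduct, Fin.sum_univ_two, hD01, hD10]
  obtain ⟨e00, e01, e10, e11⟩ := hentries
  have hdd : D 0 0 * D 1 1 = 1 := by
    rw [dtm, e00, e01, e10, e11] at hdE
    rw [dtm] at hB
    linear_combination hdE - D 0 0 * D 1 1 * hB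
  have hD0 : D 0 0 ≠ 0 := left_ne_zero_of_mul (hdd ▸ one_ne_zero)
  have hgood : Good E := by
    have hneg2 : ∀ x : Fq C, -x = x := fun x => by linear_combination -x * h2
    refine hC E (D 0 0) hD0 hdE ?_ ?_ ?_ ?_
    · rw [e00, hneg2]
    · rw [e01, hneg2]
    · rw [e10, eq_div_iff hD0]; linear_combination B 0 0 * hdd
    · rw [e11, eq_div_iff hD0]; linear_combination B 0 1 * hdd
  -- the factors
  have hAQ : M * eB C (-(t : K)) * M⁻¹ ∈ Qp C :=
    Subgroup.mem_inf.2 ⟨facts.conj_rootClosure hMP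
      (fun r hr => by rw [sW_val]; exact hA r.val hr) (eB_root C _),
      mul_mem (mul_mem hMG (eB_mem C _)) (inv_mem hMG)⟩
  have hYQ : M * eM C (-(-(t : K))⁻¹) * M⁻¹ ∈ Qm C :=
    Subgroup.mem_inf.2 ⟨facts.conj_rootClosure hMP
      (fun r hr => by rw [sW_val]; exact hY r.val hr) (eM_root C _),
      mul_mem (mul_mem hMG (eM_mem C _)) (inv_mem hMG)⟩
  intro u hu
  have := X.cl_of_good C (N := M * nB C (-(t : K)) * M⁻¹) hAQ hYQ (by rw [nB]; group) hdE hgood u hu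
  rw [hp1, hp', map_mul, map_mul, hpt, hpd, map_mul, map_inv] at this
  refine Eq.subst (motive := fun g => Cov C (Lh C X.p0) g) ?_ this
  rw [hn9, nB_neg_one C t]
  group

/-- The cells of the pair. -/
theorem XData.cl_pair (p : pairGrp C) : X.Cl C (nB C (-1) * nU chevD4 23 (-1)) p := by
  classical
  obtain ⟨pt, hpt, hfst, -, -⟩ := tor_pair C p.1.1⁻¹
  have hu1 : (-1 : K) ^ q = -1 := by rw [← C.hf, map_neg, map_one]
  set s : Kˣ := -p.1.1⁻¹ with hs
  suffices h : X.Cl C (nB C (s : K) * nU chevD4 23 (-1)) (pt * p) by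
    intro u hu
    have e : nB C (-1) * nU chevD4 23 (-1) * Lh C p =
        nB C (s : K) * nU chevD4 23 (-1) * Lh C (pt * p) := by
      rw [map_mul, hpt, nB_neg_one C p.1.1⁻¹, hs, Units.val_neg, ← mul_assoc,
        mul_assoc (nB C _), (tor_n23 C p.1.1⁻¹ (-1)).eq, ← mul_assoc]
    rw [e]
    exact h u hu
  obtain ⟨hd, hp1⟩ := eq_p1 C (p := pt * p) (by
    show pt.1.1 * p.1.1 = 1
    rw [hfst, inv_mul_cancel])
  rw [← hp1]
  obtain ⟨k, k', hkk, hk, hk'⟩ := pair_conj C s (-1) (by simpa using hu1)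
  have hm1 : ((-1 : Kˣ) : K) = -1 := by simp
  rw [hm1] at hk hk'
  refine cases_pair (P := fun g => ∀ hg : dtm g = 1,
    X.Cl C (nB C (s : K) * nU chevD4 23 (-1)) (p1 C g hg)) hkk
    (fun g hg hgd => ?_) (fun g c h hgd => ?_) (fun g c h hgd => ?_)
    (fun h2 B hB hC _ => X.cl_pair_two C s h2 hB hC) hd hd
  · obtain ⟨hA, hY, e⟩ := pair_factors C (s : K) hu1
    exact X.cl_of_good C hA hY e hgd hg
  · refine X.step_L C (z := p1 C (up c) (dtm_up _)) (w := p1 C (low (k * c)) (dtm_low _))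
      (by rw [Lh_up, Lh_low, hk]; rfl) ?_
    have he : p1 C (low (k * c)) (dtm_low _) * p1 C g hgd * (p1 C (up c) (dtm_up c))⁻¹ =
        p1 C (low (k * c) * g * up (-c))
          (by rw [dtm_mul, dtm_mul, hgd, dtm_low, dtm_up, one_mul, one_mul]) :=
      Subtype.ext (Prod.ext (by simp [p1, pr]) (by simp [p1, pr, up_inv]))
    rw [he]
    exact h _
  · refine X.step_L C (z := p1 C (low c) (dtm_low _)) (w := p1 C (up (k' * c)) (dtm_up _))
      (by rw [Lh_up, Lh_low, hk']; rfl) ?_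
    have he : p1 C (up (k' * c)) (dtm_up _) * p1 C g hgd * (p1 C (low c) (dtm_low c))⁻¹ =
        p1 C (up (k' * c) * g * low (-c))
          (by rw [dtm_mul, dtm_mul, hgd, dtm_low, dtm_up, one_mul, one_mul]) :=
      Subtype.ext (Prod.ext (by simp [p1, pr]) (by simp [p1, pr, low_inv]))
    rw [he]
    exact h _

/-- Elements which conjugate into the pair cell. -/
theorem XData.to_pair {n w : GL chevD4.Idx K} {γ : K} {j : List (Fin chevD4.rank)}
    (hj : j ∈ [[], Wb]) (hn : n ∈ twistedD4 K q) (hm : n ∈ chevD4.monomialSubgroup K)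
    (hP : PermAct n (sW chevD4 (W23 ++ j))) (hw : w ∈ RQ K) (hwG : w ∈ twistedD4 K q)
    (hγ : γ ≠ 0) : Cov C (Lh C X.p0) (n * w * eB C γ) := by
  obtain ⟨hperm, hpos, -⟩ := word_data
  have hneg : (-1 : K) ≠ 0 := neg_ne_zero.2 one_ne_zero
  have hu1 : (-1 : K) ^ q = -1 := by rw [← C.hf, map_neg, map_one]
  obtain ⟨hBm, hBP⟩ := nB_perm C (one_ne_zero (α := K))
  obtain ⟨htm, htP⟩ := nB_perm C (inv_ne_zero hγ)
  have hBG := nB_mem C (1 : K)
  refine cov_of C hBG ?_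
  set n1 := nB C 1 * n * (nB C 1)⁻¹ with hn1
  set w1 := nB C 1 * w * (nB C 1)⁻¹ with hw1
  set E := (eB C γ⁻¹)⁻¹ with hE
  set e1 := n1 * E * n1⁻¹ with he1
  have hn1G : n1 ∈ twistedD4 K q := mul_mem (mul_mem hBG hn) (inv_mem hBG)
  have hn1m : n1 ∈ chevD4.monomialSubgroup K := mul_mem (mul_mem hBm hm) (inv_mem hBm)
  have hn1P : PermAct n1 (sW chevD4 (Wa ++ (W23 ++ j) ++ Wa.reverse)) := by
    rw [sW_append, sW_append, facts.sW_reverse]
    exact facts.permAct_mul (facts.permAct_mul hBP hP) (facts.permAct_inv hBm hBP)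
  have hEG : E ∈ twistedD4 K q := inv_mem (eB_mem C _)
  have he1Q : e1 ∈ Qp C :=
    Subgroup.mem_inf.2 ⟨facts.conj_rootClosure hn1P
      (fun r hr => by rw [sW_val]; exact hpos j hj r.val hr) (inv_mem (eB_root C _)),
      mul_mem (mul_mem hn1G hEG) (inv_mem hn1G)⟩
  have hw1R : w1 ∈ RQ K := (Subgroup.mem_normalizer_iff.1 (nB_norm C 1) w).1 hw
  set w2 := (nB C γ⁻¹)⁻¹ * (E⁻¹ * w1 * E) * nB C γ⁻¹ with hw2
  have hw2R : w2 ∈ RQ K := by
    have h1 : E⁻¹ * w1 * E ∈ RQ K := by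
      have := (Subgroup.mem_normalizer_iff.1 (triples_norm C γ⁻¹).1 w1).1 hw1R
      rwa [hE, inv_inv]
    have := (Subgroup.mem_normalizer_iff.1 (inv_mem (nB_norm C γ⁻¹)) _).1 h1
    rwa [inv_inv] at this
  have hw2G : w2 ∈ twistedD4 K q :=
    mul_mem (mul_mem (inv_mem (nB_mem C _))
      (mul_mem (mul_mem (inv_mem hEG) (mul_mem (mul_mem hBG hwG) (inv_mem hBG))) hEG)) (nB_mem C _)
  refine cov_of C (inv_mem he1Q.2) ?_
  have hM : nB C γ⁻¹ = E⁻¹ * eM C (-γ) * E⁻¹ := by rw [hE, inv_inv, nB, inv_inv]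
  have key : e1⁻¹ * (nB C 1 * (n * w * eB C γ) * (nB C 1)⁻¹) * e1⁻¹⁻¹ =
      n1 * nB C γ⁻¹ * (w2 * E * e1) := by
    rw [show nB C 1 * (n * w * eB C γ) * (nB C 1)⁻¹ = n1 * w1 * (nB C 1 * eB C γ * (nB C 1)⁻¹) by
      rw [hn1, hw1]; group, nB_conj_eB, he1, hw2, hM]
    group
  rw [key]
  refine X.finish C (fun p => X.cl_pair C p) (mul_mem (nB_mem C _) (n23_mem C hu1))
    (mul_mem (nB_perm C hneg).1 (n23_perm C hneg).1) (R := Wp) ?_ hj
    (mul_mem hn1G (nB_mem C _)) (mul_mem hn1m htm) ?_ ?_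
  · rw [show Wp = Wa ++ W23 from rfl, sW_append]
    exact facts.permAct_mul (nB_perm C hneg).2 (n23_perm C hneg).2
  · rw [← sW_ext (hperm j hj), sW_append]
    exact facts.permAct_mul hn1P htP
  · exact mul_mem (mul_mem (pos_le_P1 C hw2G (RQ_le_pos C hw2R))
      (inv_mem (Subgroup.mem_sup_right (eB_Qp C _)))) (Subgroup.mem_sup_right he1Q)

/-- The cells of the highest root with a rational parameter. -/
theorem XData.cl_W23_rat {p : pairGrp C} (hfu : C.fu p.1.1 = p.1.1) :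
    X.Cl C (nU chevD4 23 (-1)) p := by
  obtain ⟨-, -, -, -, -, -, -, -, -, -, -, -, -, -, -, -, c0, c1, c2, c3, -⟩ := fall_data
  set v : Kˣ := p.1.1⁻¹ with hv
  have hfv : C.fu v = v := by rw [hv, map_inv, hfu]
  have hvq : (v : K) ^ q = v := by
    rw [← Units.val_pow_eq_pow_val, ← TwD4.Torus.fu_eq_pow, hfv]
  have hn : (v : K) * v ∈ Fq C := mul_mem ((mem_Fq C).2 hvq) ((mem_Fq C).2 hvq)
  let pv' : pairGrp C := pr C v (gl2 ⟨_, hn⟩ 0 0 ⟨(v : K), (mem_Fq C).2 hvq⟩ (by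
      rw [mul_zero, sub_zero]
      exact mul_ne_zero (fun e => mul_ne_zero v.ne_zero v.ne_zero (congrArg Subtype.val e))
        (fun e => v.ne_zero (congrArg Subtype.val e)))) (by
    show ((v * C.fu v * C.fu (C.fu v) : Kˣ) : K) = _
    rw [hfv, hfv]
    simp [dtm])
  obtain ⟨b, -, hb0, hb⟩ := diag_Lh C (p := pv') rfl rfl
  have hb' : b = v * v := Units.ext hb0
  have hv' : Lh C pv' = hU chevD4 23 (v : K) := by
    rw [hb, facts.hU_eq_hT (lt24 (by norm_num)) v, hb']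
    refine facts.hT_congr fun i hi => ?_
    have hi4 : i < 4 := tables.2.1 ▸ hi
    show C.vec v (v * v) i = v ^ cor chevD4 23 i
    interval_cases i <;> simp [Ctx.vec, c0, c1, c2, c3, hfv, zpow_two, pow_two]
  intro u hu
  have e : nU chevD4 23 (-1) * Lh C p = nU chevD4 23 (-(v : K)) * Lh C (pv' * p) := by
    rw [map_mul, hv', ← mul_assoc, ← nU_eq_mul_hU (lt24 (by norm_num))]
  rw [e]
  have hmq : (-(v : K)) ^ q = -(v : K) := by rw [← C.hf, map_neg, C.hf, hvq]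
  obtain ⟨hA, hY, e2⟩ := n23_factors C hmq
  obtain ⟨hm, hP⟩ := n23_perm C (neg_ne_zero.2 v.ne_zero)
  refine X.cl_single C hA hY e2
    (Or.inr fun c => move_Qp C (n23_mem C hmq) hm hP (.inr rfl) word_data.2.2.2.2.2 c) ?_ u hu
  show v * p.1.1 = 1
  rw [hv, inv_mul_cancel]

/-- A square root of a rational unit is rational. -/
theorem rat_of_sq {a b : Kˣ} (hb : b ^ (q - 1) = 1) (h : a * a = b) : C.fu a = a := by
  have h1 : a ^ (q - 1) * a ^ (q - 1) = 1 := by rw [← mul_pow, h, hb]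
  have h3 : a ^ (q ^ 3 - 1) = 1 := by
    have := pow_card_eq_one' (x := a)
    rwa [Nat.card_units, Nat.card_eq_fintype_card, C.card] at this
  rw [TwD4.Mult.cube_sub_one C, pow_mul] at h3
  obtain ⟨m, hm⟩ := Nat.even_mul_succ_self q
  have e : q ^ 2 + q + 1 = 2 * m + 1 := by
    rw [show q ^ 2 + q = q * (q + 1) by ring, hm]
    ring
  rw [e, pow_succ, pow_mul, pow_two, h1, one_pow, one_mul] at h3
  have hq := C.q_gt
  rw [TwD4.Torus.fu_eq_pow, show q = q - 1 + 1 by omega, pow_succ, h3, one_mul]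

/-- The cells of the highest root. -/
theorem XData.cl_W23 (p : pairGrp C) : X.Cl C (nU chevD4 23 (-1)) p := by
  classical
  have hneg : (-1 : K) ≠ 0 := neg_ne_zero.2 one_ne_zero
  have hu1 : (-1 : K) ^ q = -1 := by rw [← C.hf, map_neg, map_one]
  have hNG := n23_mem C hu1
  obtain ⟨hNm, hNP⟩ := n23_perm C hneg
  -- the two shapes
  have key : ∀ p : pairGrp C, (p.1.2 1 0 = 0 ∨ p.1.2 0 0 = 0 ∧ p.1.2 1 1 = 0) →
      X.Cl C (nU chevD4 23 (-1)) p := by
    intro p hp u hu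
    rcases hp with h10 | ⟨h00, h11⟩
    · have hg00 : p.1.2 0 0 ≠ 0 := fun e => dtm_ne p.1.2 (by rw [dtm, e, h10]; ring)
      set e : Fq C := p.1.2 0 1 / p.1.2 0 0 with he
      set pd := p * p1 C (up (-e)) (dtm_up _) with hpd
      have hd01 : pd.1.2 0 1 = 0 := by
        show (p.1.2 * up (-e)) 0 1 = 0
        simp [up, Matrix.mul_apply, Fin.sum_univ_two, he, mul_div_cancel₀ _ hg00]
      have hd10 : pd.1.2 1 0 = 0 := by
        show (p.1.2 * up (-e)) 1 0 = 0
        simp [up, Matrix.mul_apply, Fin.sum_univ_two, h10]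
      obtain ⟨b, hb, -, hLd⟩ := diag_Lh C hd01 hd10
      have hfst : pd.1.1 = p.1.1 := mul_one _
      rw [hfst] at hLd
      have hsplit : nU chevD4 23 (-1) * Lh C p * u =
          nU chevD4 23 (-1) * hT chevD4 (C.vec p.1.1 b) * (xU chevD4 14 (e : K) * u) := by
        rw [← Lh_up, ← hLd, hpd, map_mul, show p1 C (up (-e)) (dtm_up (-e)) =
          (p1 C (up e) (dtm_up e))⁻¹ from Subtype.ext (Prod.ext (by simp [p1, pr])
            (by simp [p1, pr, up_inv])), map_inv]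
        group
      by_cases hab : p.1.1 * p.1.1 = b
      · exact X.cl_W23_rat C (rat_of_sq C hb hab) u hu
      rw [hsplit]
      have hG : xU chevD4 14 (e : K) * u ∈ twistedD4 K q :=
        mul_mem (Lh_up C e ▸ Lh_mem C _) hu.2
      have hpos : xU chevD4 14 (e : K) * u ∈ rootClosure chevD4 K (chevD4.nroots / 2 ≤ ·) :=
        mul_mem (xU_mem_rootClosure (lt24 (by norm_num))
          (by show chevD4.nroots / 2 ≤ 14; rw [simple_vals.2.2.2.2.2.1]; norm_num) _)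
          (Qp_le_pos C hu)
      obtain ⟨γ, w, hw, hwG, huw⟩ := exists_eB C hG hpos
      rw [huw]
      set χ : Kˣ := p.1.1 * p.1.1 * b⁻¹ with hχ
      set h := hT chevD4 (C.vec p.1.1 b) with hh
      have hhG : h ∈ twistedD4 K q := hLd ▸ Lh_mem C _
      have hhm : h ∈ chevD4.diagonalSubgroup K := facts.mem_diagonal_iff.2 ⟨_, rfl⟩
      obtain ⟨c, hc⟩ : ∃ c : K, γ + c * (((χ⁻¹ : Kˣ) : K) - 1) ≠ 0 := by
        by_cases hγ : γ = 0
        · refine ⟨1, ?_⟩
          rw [hγ, zero_add, one_mul, sub_ne_zero]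
          intro e1
          exact hab (mul_inv_eq_one.1 (inv_eq_one.1 (Units.ext e1)))
        · exact ⟨0, by rwa [zero_mul, add_zero]⟩
      set c' : K := ((χ⁻¹ : Kˣ) : K) * c with hc'
      have hconj : h⁻¹ * eB C c * h = eB C c' := by
        have := conj_diag_eB C p.1.1 hb c'
        rw [hc', ← mul_assoc, ← Units.val_mul, mul_inv_cancel, Units.val_one, one_mul, ← hh,
          ← hc'] at this
        rw [← this]
        group
      obtain ⟨hAc, hYc, -⟩ := n23_factors C hu1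
      have hcomm : eB C c * nU chevD4 23 (-1) = nU chevD4 23 (-1) * eB C c := by
        rw [(n23_factors C hu1).2.2]
        exact (((eB_comm_x C c (-1)).1.mul_right (eB_comm_x C c _).2.1).mul_right
          (eB_comm_x C c (-1)).1).eq
      refine cov_of C (eB_mem C c) ?_
      have e2 : eB C c * (nU chevD4 23 (-1) * h * (w * eB C γ)) * (eB C c)⁻¹ =
          nU chevD4 23 (-1) * h * (eB C c' * w * (eB C c')⁻¹) * eB C (c' + γ + -c) := by
        rw [eB_add, eB_add, eB_neg, ← hconj, ← mul_assoc (eB C c), ← mul_assoc (eB C c), hcomm]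
        group
      rw [e2]
      refine X.to_pair C (j := []) (by simp) (mul_mem hNG hhG)
        (mul_mem hNm (Subgroup.mem_sup_left hhm)) ?_
        ((Subgroup.mem_normalizer_iff.1 (triples_norm C c').1 w).1 hw)
        (mul_mem (mul_mem (eB_mem C _) hwG) (inv_mem (eB_mem C _))) ?_
      · rw [List.append_nil, ← mul_one (sW chevD4 W23)]
        exact facts.permAct_mul hNP (facts.permAct_diagonal hhm)
      · intro e3
        exact hc (by rw [hc'] at e3; linear_combination e3)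
    · set pw := p1 C (wG C) (dtm_wG C) with hpw
      obtain ⟨hwm, hwP⟩ := wG_perm C
      set pd := pw⁻¹ * p with hpd
      have hd : pd.1.2 0 1 = 0 ∧ pd.1.2 1 0 = 0 := by
        show ((wG C)⁻¹ * p.1.2) 0 1 = 0 ∧ ((wG C)⁻¹ * p.1.2) 1 0 = 0
        rw [wG, mul_inv_rev, mul_inv_rev, up_inv, low_inv, neg_neg]
        simp [up, low, Matrix.mul_apply, Matrix.vecMul, dotProduct, Fin.sum_univ_two, h00, h11]
      obtain ⟨b, -, -, hLd⟩ := diag_Lh C hd.1 hd.2
      have hhm : Lh C pd ∈ chevD4.diagonalSubgroup K :=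
        facts.mem_diagonal_iff.2 ⟨_, hLd⟩
      set n := nU chevD4 23 (-1) * Lh C pw * Lh C pd with hn
      have hnp : nU chevD4 23 (-1) * Lh C p = n := by
        rw [hn, hpd, map_mul, map_inv]; group
      rw [hnp]
      have hnG : n ∈ twistedD4 K q := mul_mem (mul_mem hNG (Lh_mem C _)) (Lh_mem C _)
      have hnm : n ∈ chevD4.monomialSubgroup K :=
        mul_mem (mul_mem hNm hwm) (Subgroup.mem_sup_left hhm)
      have hnP : PermAct n (sW chevD4 (W23 ++ Wb)) := by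
        rw [sW_append, ← mul_one (sW chevD4 W23 * sW chevD4 Wb)]
        exact facts.permAct_mul (facts.permAct_mul hNP hwP) (facts.permAct_diagonal hhm)
      obtain ⟨γ, w, hw, hwG, huw⟩ := exists_eB C hu.2 (Qp_le_pos C hu)
      rw [huw]
      set c : K := γ - 1 with hc
      refine cov_of C (eB_mem C c) ?_
      have e2 : eB C c * (n * (w * eB C γ)) * (eB C c)⁻¹ =
          n * (n⁻¹ * eB C c * n * w) * eB C (γ + -c) := by
        rw [eB_add, eB_neg]; group
      rw [e2]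
      have hv : n⁻¹ * eB C c * n ∈ RQ K := by
        have hPi : PermAct n⁻¹ (sW chevD4 (W23 ++ Wb).reverse) := by
          rw [facts.sW_reverse]; exact facts.permAct_inv hnm hnP
        have := facts.conj_rootClosure (Q := (· ∈ LQ)) hPi
          (fun r hr => by rw [sW_val]; exact word_data.2.2.1 r.val hr) (eB_root C c)
        rwa [inv_inv] at this
      exact X.to_pair C (j := Wb) (by simp) hnG hnm hnP (mul_mem hv hw)
        (mul_mem (mul_mem (mul_mem (inv_mem hnG) (eB_mem C _)) hnG) hwG)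
        (by rw [hc, neg_sub, add_sub_cancel]; exact one_ne_zero)
  -- reduction to the two shapes
  obtain ⟨c, hc⟩ : ∃ c : Fq C, (p.1.2 * low c) 1 0 = 0 ∨
      (p.1.2 * low c) 0 0 = 0 ∧ (p.1.2 * low c) 1 1 = 0 := by
    by_cases h11 : p.1.2 1 1 = 0
    · have h01 : p.1.2 0 1 ≠ 0 := fun e => dtm_ne p.1.2 (by rw [dtm, e, h11]; ring)
      obtain ⟨e1, -, -, e4⟩ := mul_low_entries p.1.2 (-p.1.2 0 0 / p.1.2 0 1)
      refine ⟨-p.1.2 0 0 / p.1.2 0 1, Or.inr ⟨?_, e4.trans h11⟩⟩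
      rw [e1, mul_div_cancel₀ _ h01, add_neg_cancel]
    · obtain ⟨-, -, e3, -⟩ := mul_low_entries p.1.2 (-p.1.2 1 0 / p.1.2 1 1)
      refine ⟨-p.1.2 1 0 / p.1.2 1 1, Or.inl ?_⟩
      rw [e3, mul_div_cancel₀ _ h11, add_neg_cancel]
  refine X.step_qp C (z := p1 C (low (-c)) (dtm_low _)) (by
    rw [Lh_low]; exact move_Qp C hNG hNm hNP (.inr rfl) word_data.2.2.2.2.2 _) (key _ ?_)
  show (p.1.2 * (low (-c))⁻¹) 1 0 = 0 ∨ (p.1.2 * (low (-c))⁻¹) 0 0 = 0 ∧
    (p.1.2 * (low (-c))⁻¹) 1 1 = 0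
  rw [low_inv, neg_neg]
  exact hc

/-- Every element outside the parabolic subgroup is covered. -/
theorem XData.cov_not_mem_P1 {g : GL chevD4.Idx K} (hg : g ∈ twistedD4 K q) (hgP : g ∉ P1 C) :
    Cov C (Lh C X.p0) g := by
  obtain ⟨b, hbG, hb, n, hnG, hn, w, hw, hwf, u, hu, rfl⟩ := C.sys.bruhat hg
  obtain ⟨l, h, hh, hnl⟩ := facts.exists_nW hn
  have hwl : w = sW chevD4 l := by
    refine facts.permAct_unique hw ?_
    rw [hnl]
    simpa using facts.permAct_mul (facts.permAct_nW l) (facts.permAct_diagonal hh)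
  obtain ⟨a, ha⟩ := TwD4.Torus.exists_img C ⟨l, hwl⟩ hwf
  obtain ⟨i, hi, R, hR, j, hj, hpe⟩ := table a
  have hwR : w = sW chevD4 (i ++ R ++ j) := by
    refine Equiv.ext fun s => Fin.ext ?_
    rw [sW_val, ha]
    exact (hpe ⟨s.val, to24 s.isLt⟩).symm
  have huG : u ∈ twistedD4 K q := by
    have := mul_mem (inv_mem (mul_mem hbG hnG)) hg
    rwa [inv_mul_cancel_left] at this
  have hbP := borel_le_P1 C hbG hb
  have hup : u ∈ rootClosure chevD4 K (chevD4.nroots / 2 ≤ ·) :=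
    rootClosure_mono (fun r _ h => h.2.1) hu.2
  obtain ⟨pi, him, hiP⟩ := levi_rep C hi
  have hpi : Lh C pi ∈ P1 C := Subgroup.mem_sup_left ⟨pi, rfl⟩
  set n' := (Lh C pi)⁻¹ * n with hn'
  have hn'G : n' ∈ twistedD4 K q := mul_mem (inv_mem (Lh_mem C _)) hnG
  have hn'm : n' ∈ chevD4.monomialSubgroup K := mul_mem (inv_mem him) hn
  have hn'P : PermAct n' (sW chevD4 (R ++ j)) := by
    have := facts.permAct_mul (facts.permAct_inv him hiP) hw
    rwa [hwR, List.append_assoc, sW_append, inv_mul_cancel_left] at this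
  have hr : u * (b * Lh C pi) ∈ P1 C := mul_mem (pos_le_P1 C huG hup) (mul_mem hbP hpi)
  have e : (b * Lh C pi)⁻¹ * (b * n * u) * (b * Lh C pi)⁻¹⁻¹ = n' * (u * (b * Lh C pi)) := by
    rw [hn']; group
  have hz : (b * Lh C pi)⁻¹ ∈ twistedD4 K q := inv_mem (mul_mem hbG (Lh_mem C _))
  refine cov_of C hz ?_
  rw [e]
  have hneg : (-1 : K) ≠ 0 := neg_ne_zero.2 one_ne_zero
  have hu1 : (-1 : K) ^ q = -1 := by rw [← C.hf, map_neg, map_one]
  obtain ⟨hBm, hBP⟩ := nB_perm C hneg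
  obtain ⟨hNm, hNP⟩ := n23_perm C hneg
  simp only [List.mem_cons, List.not_mem_nil, or_false] at hR
  rcases hR with rfl | rfl | rfl | rfl
  · exfalso
    obtain ⟨p, hp⟩ := levi_part C hj hn'G hn'm hn'P (one_mem _) (one_mem _)
      (by rw [sW_nil]; exact facts.permAct_diagonal (one_mem _))
    refine hgP ?_
    have hb' : b * n * u = b * Lh C pi * n' * u := by rw [hn']; group
    rw [hb', hp, one_mul]
    exact mul_mem (mul_mem (mul_mem hbP hpi) (Subgroup.mem_sup_left ⟨p, rfl⟩))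
      (pos_le_P1 C huG hup)
  · exact X.finish C (fun p => X.cl_Wa C p) (nB_mem C _) hBm hBP hj hn'G hn'm hn'P hr
  · exact X.finish C (fun p => X.cl_W23 C p) (n23_mem C hu1) hNm hNP hj hn'G hn'm hn'P hr
  · refine X.finish C (fun p => X.cl_pair C p) (mul_mem (nB_mem C _) (n23_mem C hu1))
      (mul_mem hBm hNm) ?_ hj hn'G hn'm hn'P hr
    rw [show Wp = Wa ++ W23 from rfl, sW_append]
    exact facts.permAct_mul hBP hNP

end CfsgLib.Known.D4Square
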