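import Cfsg.Agent.Lib.Known.D4Square.Fpf

/-!
Elements covered by the square of the class of the semisimple element of `³D₄`.
-/

set_option autoImplicit false
set_option maxRecDepth 20000
set_option maxHeartbeats 1000000

namespace CfsgLib.Known.D4Square

open Cfsg.Lie CfsgLib.Chev CfsgLib.Chev.TwD4
open CfsgLib.Chev.TwD4.Torus (Fq mem_Fq nrm pairGrp mem_pairGrp sPart tor)
open CfsgLib.Known.G2Square (gl2 up low gl_ext dtm dtm_mul up_inv low_inv dtm_up dtm_low)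

universe v

/-- Filling a coset by conjugates. -/
theorem conj_fill {G : Type*} [Group G] (H : Subgroup G) [Finite H] {x : G}
    (hn : ∀ v ∈ H, x * v * x⁻¹ ∈ H) (hn' : ∀ v ∈ H, x⁻¹ * v * x ∈ H)
    (hfix : ∀ v ∈ H, x * v * x⁻¹ = v → v = 1) :
    (∀ h ∈ H, ∃ v ∈ H, h * x = v * x * v⁻¹) ∧ (∀ h ∈ H, ∃ v ∈ H, x * h = v * x * v⁻¹) := by
  have hinj : ∀ v w : H, (v : G) * x * (v : G)⁻¹ = (w : G) * x * (w : G)⁻¹ → v = w := by
    intro v w h
    have h1 := hfix _ (mul_mem (inv_mem w.2) v.2) (by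
      calc x * ((w : G)⁻¹ * v) * x⁻¹
          = (w : G)⁻¹ * ((w : G) * x * (w : G)⁻¹) * v * x⁻¹ := by group
        _ = _ := by rw [← h]; group)
    exact Subtype.ext (inv_mul_eq_one.1 h1).symm
  refine ⟨fun h hh => ?_, fun h hh => ?_⟩
  · let f : H → H := fun v => ⟨(v : G) * (x * (v : G)⁻¹ * x⁻¹), mul_mem v.2 (hn _ (inv_mem v.2))⟩
    have hf : Function.Injective f := fun v w e => hinj v w (by
      have e' : (v : G) * (x * (v : G)⁻¹ * x⁻¹) = (w : G) * (x * (w : G)⁻¹ * x⁻¹) :=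
        congrArg Subtype.val e
      simpa [← mul_assoc] using e')
    obtain ⟨v, hv⟩ := Finite.surjective_of_injective hf ⟨h, hh⟩
    refine ⟨v, v.2, ?_⟩
    rw [show h = (v : G) * (x * (v : G)⁻¹ * x⁻¹) from (congrArg Subtype.val hv).symm]
    group
  · let f : H → H := fun v => ⟨(x⁻¹ * (v : G) * x) * (v : G)⁻¹,
      mul_mem (hn' _ v.2) (inv_mem v.2)⟩
    have hf : Function.Injective f := fun v w e => hinj v w (by
      have e' : (x⁻¹ * (v : G) * x) * (v : G)⁻¹ = (x⁻¹ * (w : G) * x) * (w : G)⁻¹ :=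
        congrArg Subtype.val e
      simpa [mul_assoc] using e')
    obtain ⟨v, hv⟩ := Finite.surjective_of_injective hf ⟨h, hh⟩
    refine ⟨v, v.2, ?_⟩
    rw [show h = (x⁻¹ * (v : G) * x) * (v : G)⁻¹ from (congrArg Subtype.val hv).symm]
    group

variable {K : Type v} [Field K] [Fintype K] {q : ℕ} (C : Ctx K q)
include C

/-- The group element which is a product of two conjugates of `x`. -/
def Cov (_ : Ctx K q) (x g : GL chevD4.Idx K) : Prop :=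
  ∃ u ∈ twistedD4 K q, ∃ v ∈ twistedD4 K q, g = u * x * u⁻¹ * (v * x * v⁻¹)

theorem cov_of {x g z : GL chevD4.Idx K} (hz : z ∈ twistedD4 K q) (h : Cov C x (z * g * z⁻¹)) :
    Cov C x g := by
  obtain ⟨u, hu, v, hv, e⟩ := h
  refine ⟨z⁻¹ * u, mul_mem (inv_mem hz) hu, z⁻¹ * v, mul_mem (inv_mem hz) hv, ?_⟩
  calc g = z⁻¹ * (z * g * z⁻¹) * z := by group
    _ = _ := by rw [e]; group

theorem eq_p1 {p : pairGrp C} (h : p.1.1 = 1) :
    ∃ hg : dtm p.1.2 = 1, p1 C p.1.2 hg = p := by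
  have h1 := pr_cond C p
  rw [h, map_one] at h1
  exact ⟨Subtype.ext (by rw [← h1]; rfl), Subtype.ext (Prod.ext h.symm rfl)⟩

theorem tor_pair (t : Kˣ) : ∃ p : pairGrp C, Lh C p = tor C t ∧ p.1.1 = t ∧ p.1.2 0 1 = 0 ∧
    p.1.2 1 0 = 0 := by
  have hnF : ((nrm C t : Kˣ) : K) ∈ Fq C := (mem_Fq C).2 (by
    rw [← Units.val_pow_eq_pow_val, ← TwD4.Torus.fu_eq_pow, TwD4.Torus.nrm_fix])
  refine ⟨pr C t (gl2 1 0 0 ⟨_, hnF⟩ (by
    rw [one_mul, mul_zero, sub_zero]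
    exact fun h => (nrm C t).ne_zero (congrArg Subtype.val h))) (by simp [dtm]), ?_, rfl, rfl, rfl⟩
  rw [Lh_apply, show sPart C _ = 1 from ?_, map_one, mul_one]
  · rfl
  · refine Subtype.ext ?_
    ext i j
    fin_cases i <;> fin_cases j <;> simp [sPart, pr]

variable (X : XData C)

/-- The cell `N · Lh p · Qp` consists of covered elements. -/
def XData.Cl (N : GL chevD4.Idx K) (p : pairGrp C) : Prop :=
  ∀ u ∈ Qp C, Cov C (Lh C X.p0) (N * Lh C p * u)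

theorem XData.cov_good {g : GL (Fin 2) (Fq C)} (hg : Good g) (hd : dtm g = 1)
    {a b : GL chevD4.Idx K} (ha : a ∈ Qm C) (hb : b ∈ Qp C) :
    Cov C (Lh C X.p0) (a * Lh C (p1 C g hd) * b) := by
  obtain ⟨P, Q, hPQ⟩ := X.S.good_prod hg
  obtain ⟨wP, hwP⟩ := exists_pair C P
  obtain ⟨wQ, hwQ⟩ := exists_pair C Q
  have hp1 : p1 C g hd = wP * X.p0 * wP⁻¹ * (wQ * X.p0⁻¹ * wQ⁻¹) := by
    refine Subtype.ext (Prod.ext ?_ ?_)
    · show (1 : Kˣ) = wP.1.1 * X.p0.1.1 * wP.1.1⁻¹ * (wQ.1.1 * X.p0.1.1⁻¹ * wQ.1.1⁻¹)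
      rw [mul_inv_cancel_comm, mul_inv_cancel_comm, mul_inv_cancel]
    · show g = wP.1.2 * X.p0.1.2 * wP.1.2⁻¹ * (wQ.1.2 * X.p0.1.2⁻¹ * wQ.1.2⁻¹)
      rw [hwP, hwQ, X.hs]
      exact hPQ
  set x := Lh C X.p0 with hx
  obtain ⟨v, hv, hv'⟩ := (conj_fill (Qm C) (x := x) (fun v hv => conj_Qm C _ hv)
    (fun v hv => by
      have := conj_Qm C X.p0⁻¹ hv
      rwa [map_inv, inv_inv] at this) X.fixM).1 ((Lh C wP)⁻¹ * a * Lh C wP) (by
      have := conj_Qm C wP⁻¹ ha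
      rwa [map_inv, inv_inv] at this)
  obtain ⟨w, hw, hw'⟩ := (conj_fill (Qp C) (x := x⁻¹) (fun v hv => by
      rw [inv_inv]; exact conj_Qp' C _ hv)
    (fun v hv => by rw [inv_inv]; exact conj_Qp C _ hv)
    (fun v hv h => X.fixP v hv (by
      rw [inv_inv] at h
      calc x * v * x⁻¹ = x * (x⁻¹ * v * x) * x⁻¹ := by rw [h]
        _ = v := by group))).2 ((Lh C wQ)⁻¹ * b * Lh C wQ) (conj_Qp' C _ hb)
  refine ⟨Lh C wP * v, mul_mem (Lh_mem C wP) hv.2, Lh C wQ * w * X.nr,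
    mul_mem (mul_mem (Lh_mem C wQ) hw.2) X.nr_mem, ?_⟩
  rw [show Lh C wP * v * x * (Lh C wP * v)⁻¹ = Lh C wP * (v * x * v⁻¹) * (Lh C wP)⁻¹ by group,
    show Lh C wQ * w * X.nr * x * (Lh C wQ * w * X.nr)⁻¹ =
      Lh C wQ * (w * (X.nr * x * X.nr⁻¹) * w⁻¹) * (Lh C wQ)⁻¹ by group, X.real, ← hv', ← hw', hp1]
  simp only [map_mul, map_inv]
  rw [← hx]
  group

/-- Conjugation by an element of the Levi subgroup moved into the radical by `N`. -/
theorem XData.step_qp {N : GL chevD4.Idx K} {z p : pairGrp C}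
    (hw : N⁻¹ * Lh C z * N ∈ Qp C) (h : X.Cl C N (p * z⁻¹)) : X.Cl C N p := by
  intro u hu
  refine cov_of C (Lh_mem C z) ?_
  have := h _ (mul_mem (conj_Qp' C (p * z⁻¹) hw) (conj_Qp C z hu))
  rw [map_mul, map_inv] at this
  have e : Lh C z * (N * Lh C p * u) * (Lh C z)⁻¹ = N * (Lh C p * (Lh C z)⁻¹) *
      ((Lh C p * (Lh C z)⁻¹)⁻¹ * (N⁻¹ * Lh C z * N) * (Lh C p * (Lh C z)⁻¹) *
        (Lh C z * u * (Lh C z)⁻¹)) := by group
  rw [e]
  exact this

/-- Conjugation by an element of the Levi subgroup normalised by `N`. -/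
theorem XData.step_L {N : GL chevD4.Idx K} {z w p : pairGrp C}
    (hw : N⁻¹ * Lh C z * N = Lh C w) (h : X.Cl C N (w * p * z⁻¹)) : X.Cl C N p := by
  intro u hu
  refine cov_of C (Lh_mem C z) ?_
  have := h _ (conj_Qp C z hu)
  rw [map_mul, map_mul, map_inv, ← hw] at this
  have e : Lh C z * (N * Lh C p * u) * (Lh C z)⁻¹ =
      N * (N⁻¹ * Lh C z * N * Lh C p * (Lh C z)⁻¹) * (Lh C z * u * (Lh C z)⁻¹) := by group
  rw [e]
  exact this

/-- The final step. -/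
theorem XData.cl_of_good {N A Y : GL chevD4.Idx K} (hA : A ∈ Qp C) (hY : Y ∈ Qm C)
    (e : N = A * Y * A) {g : GL (Fin 2) (Fq C)} (hd : dtm g = 1) (hg : Good g) :
    X.Cl C N (p1 C g hd) := by
  intro u hu
  refine cov_of C (inv_mem hA.2) ?_
  have e2 : A⁻¹ * (N * Lh C (p1 C g hd) * u) * A⁻¹⁻¹ = Y * Lh C (p1 C g hd) *
      ((Lh C (p1 C g hd))⁻¹ * A * Lh C (p1 C g hd) * u * A) := by
    rw [e]; group
  rw [e2]
  exact X.cov_good C hg hd hY (mul_mem (mul_mem (conj_Qp' C _ hA) hu) hA)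

/-- Cells whose reflection moves one of the root subgroups of the Levi subgroup into the radical. -/
theorem XData.cl_single {N A Y : GL chevD4.Idx K} (hA : A ∈ Qp C) (hY : Y ∈ Qm C)
    (e : N = A * Y * A)
    (h : (∀ c : Fq C, N⁻¹ * xU chevD4 14 (c : K) * N ∈ Qp C) ∨
      ∀ c : Fq C, N⁻¹ * xU chevD4 9 (c : K) * N ∈ Qp C)
    {p : pairGrp C} (hp : p.1.1 = 1) : X.Cl C N p := by
  obtain ⟨hd, e1⟩ := eq_p1 C hp
  rw [← e1]
  refine cases_single (P := fun g => ∀ hg : dtm g = 1, X.Cl C N (p1 C g hg))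
    (fun g hg hgd => X.cl_of_good C hA hY e hgd hg) ?_ hd hd
  rcases h with h | h
  · refine Or.inl fun g c hg hgd => X.step_qp C (z := p1 C (up (-c)) (dtm_up _))
      (by rw [Lh_up]; exact h _) ?_
    have he : p1 C g hgd * (p1 C (up (-c)) (dtm_up (-c)))⁻¹ = p1 C (g * up c)
        (by rw [dtm_mul, hgd, dtm_up, one_mul]) :=
      Subtype.ext (Prod.ext (by simp [p1, pr]) (by simp [p1, pr, up_inv]))
    rw [he]
    exact hg _
  · refine Or.inr fun g c hg hgd => X.step_qp C (z := p1 C (low (-c)) (dtm_low _))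
      (by rw [Lh_low]; exact h _) ?_
    have he : p1 C g hgd * (p1 C (low (-c)) (dtm_low (-c)))⁻¹ = p1 C (g * low c)
        (by rw [dtm_mul, hgd, dtm_low, one_mul]) :=
      Subtype.ext (Prod.ext (by simp [p1, pr]) (by simp [p1, pr, low_inv]))
    rw [he]
    exact hg _

end CfsgLib.Known.D4Square
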