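import Cfsg.Agent.Lib.Known.D4Square.SLTwo
import Cfsg.Agent.Lib.Recognition.Triality.Gen
import Cfsg.Agent.Lib.Chev.Twist.D4Torus.Emb
import Cfsg.Agent.Lib.Known.OddInvol.Moves

/-!
Elements of `³D₄`: the Levi subgroup of the long simple root, root elements, monomial elements.
-/

set_option autoImplicit false
set_option maxRecDepth 20000
set_option maxHeartbeats 1000000

namespace CfsgLib.Known.D4Square

open Cfsg.Lie CfsgLib.Chev CfsgLib.Chev.TwD4
open CfsgLib.Chev.TwD4.Torus (Fq mem_Fq nrm nrm_fix pairGrp mem_pairGrp sPart tor psiHom psiHom_mem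
  psiHom_injective exists_phi phi_diag loM)
open CfsgLib.Chev.TwD4.Mult (RQ LQ eB eB_mem eB_add fix_single_f)
open CfsgLib.Known.G2Square (gl2 up low dd gl_ext dtm dtm_eq dtm_mul)
open scoped Pointwise

universe v

theorem facts : Facts chevD4 DataD4.co := DataD4.facts

/-- A word acting on root numbers. -/
def pv (l : List (Fin chevD4.rank)) (s : ℕ) : ℕ :=
  l.foldr (fun i r => chevD4.reflectRoot i.val r) s

theorem sW_val : ∀ (l : List (Fin chevD4.rank)) (s : Fin chevD4.nroots),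
    (sW chevD4 l s).val = pv l s.val
  | [], _ => rfl
  | j :: l, s => by
    rw [sW_cons, Equiv.Perm.mul_apply, facts.sP_val, sW_val l s]
    rfl

theorem sW_ext {l m : List (Fin chevD4.rank)} (h : ∀ s : Fin chevD4.nroots, pv l s.val = pv m s.val) :
    sW chevD4 l = sW chevD4 m :=
  Equiv.ext fun s => Fin.ext (by rw [sW_val, sW_val]; exact h s)

/-- The node of the first outer root. -/
abbrev R0 : Fin chevD4.rank := ⟨0, by decide⟩
/-- The central node. -/
abbrev R1 : Fin chevD4.rank := ⟨1, by decide⟩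
/-- The node of the second outer root. -/
abbrev R2 : Fin chevD4.rank := ⟨2, by decide⟩
/-- The node of the third outer root. -/
abbrev R3 : Fin chevD4.rank := ⟨3, by decide⟩

/-- The word of the short simple reflection. -/
abbrev Wa : List (Fin chevD4.rank) := [R0, R2, R3]
/-- The word of the long simple reflection. -/
abbrev Wb : List (Fin chevD4.rank) := [R1]
/-- The word of the reflection of the highest root. -/
abbrev W23 : List (Fin chevD4.rank) := [R1, R3, R2, R0] ++ R1 :: [R1, R3, R2, R0].reverse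
/-- The word of the longest element. -/
abbrev Wp : List (Fin chevD4.rank) := Wa ++ W23

theorem simple_vals : chevD4.simple 0 = 18 ∧ chevD4.simple 1 = 14 ∧ chevD4.simple 2 = 13 ∧
    chevD4.simple 3 = 12 ∧ pv [R1, R3, R2, R0] 14 = 23 ∧ chevD4.nroots = 24 ∧
    d4p1 = 18 ∧ d4p2 = 14 ∧ d4p3 = 13 ∧ d4p4 = 12 ∧ d4m1 = 5 ∧ d4m2 = 9 ∧ d4m3 = 10 ∧ d4m4 = 11 ∧
    chevD4.neg 18 = 5 ∧ chevD4.neg 13 = 10 ∧ chevD4.neg 12 = 11 ∧ chevD4.neg 14 = 9 ∧
    chevD4.neg 23 = 0 ∧ chevD4.rank = 4 := by decide +kernel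

theorem lt24 {r : ℕ} (h : r < 24) : r < chevD4.nroots := simple_vals.2.2.2.2.2.1.symm ▸ h

theorem to24 {r : ℕ} (h : r < chevD4.nroots) : r < 24 := simple_vals.2.2.2.2.2.1 ▸ h

/-- The roots of the radical. -/
def InP (r : ℕ) : Prop := 12 ≤ r ∧ r ≠ 14

/-- The roots of the opposite radical. -/
def InM (r : ℕ) : Prop := r < 12 ∧ r ≠ 9

instance (r : ℕ) : Decidable (InP r) := inferInstanceAs (Decidable (_ ∧ _))
instance (r : ℕ) : Decidable (InM r) := inferInstanceAs (Decidable (_ ∧ _))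

theorem norm_data : ∀ i : Fin 24, i.val = 9 ∨ i.val = 14 →
    (∀ j : Fin 24, InP j.val → j.val ≠ chevD4.neg i.val ∧
      (i.val ≠ j.val → ∀ c ∈ chevD4.commTerms i.val j.val, InP c.1)) ∧
    (∀ j : Fin 24, InM j.val → j.val ≠ chevD4.neg i.val ∧
      (i.val ≠ j.val → ∀ c ∈ chevD4.commTerms i.val j.val, InM c.1)) := by
  decide +kernel

/-- The roots of the outer simple triple and their negatives normalise the radical `RQ`. -/
theorem norm_RQ : ∀ i : Fin 24, i.val ∈ [18, 13, 12, 5, 10, 11] → ∀ j : Fin 24, j.val ∈ LQ →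
    j.val ≠ chevD4.neg i.val ∧ (i.val ≠ j.val → ∀ c ∈ chevD4.commTerms i.val j.val, c.1 ∈ LQ) := by
  decide +kernel

theorem comm_data : ∀ r ∈ [18, 13, 12, 5, 10, 11], ∀ s ∈ [0, 23],
    parD4.commB chevD4 r s = true := by decide +kernel

theorem orbit_comm : ∀ p ∈ [((18 : ℕ), (13 : ℕ)), (18, 12), (13, 12)], p.1 < 24 ∧ p.2 < 24 ∧
    parD4.commB chevD4 p.1 p.2 = true ∧ parD4.commB chevD4 p.1 (chevD4.neg p.2) = true ∧
    parD4.commB chevD4 (chevD4.neg p.1) p.2 = true ∧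
    parD4.commB chevD4 (chevD4.neg p.1) (chevD4.neg p.2) = true := by decide +kernel

variable {K : Type v} [Field K]

theorem nU_perm {w : List (Fin chevD4.rank)} {i : Fin chevD4.rank} {r : ℕ}
    (h : pv w (chevD4.simple i.val) = r) {t : K} (ht : t ≠ 0) :
    nU chevD4 r t ∈ chevD4.monomialSubgroup K ∧
      PermAct (nU chevD4 r t) (sW chevD4 (w ++ i :: w.reverse)) := by
  have h1 := OddInvol.permAct_nU (F := K) facts w i ht
  rw [sW_val, show (facts.simpleFin i).val = chevD4.simple i.val from rfl, h] at h1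
  rw [sW_append, sW_cons, facts.sW_reverse, ← mul_assoc]
  exact h1

theorem conj_inv_xU {N : GL chevD4.Idx K} {W : List (Fin chevD4.rank)}
    (hm : N ∈ chevD4.monomialSubgroup K) (hN : PermAct N (sW chevD4 W)) {s : ℕ} (hs : s < 24) :
    ∃ k : K, k ≠ 0 ∧ ∀ c, N⁻¹ * xU chevD4 s c * N = xU chevD4 (pv W.reverse s) (k * c) := by
  have h := facts.permAct_inv hm hN
  rw [← facts.sW_reverse] at h
  obtain ⟨k, hk, h1, -⟩ := h ⟨s, lt24 hs⟩
  refine ⟨k, hk, fun c => ?_⟩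
  have := h1 c
  rwa [inv_inv, sW_val] at this

theorem nU_eq_mul_hU {r : ℕ} (hr : r < chevD4.nroots) (t : K) :
    nU chevD4 r (-1) = nU chevD4 r (-t) * hU chevD4 r t := by
  rw [hU, ← mul_assoc, show nU chevD4 r (-t) = (nU chevD4 r t)⁻¹ from (facts.nU_inv hr t).symm,
    inv_mul_cancel, one_mul]

theorem nU_self_mul {r : ℕ} (hr : r < chevD4.nroots) (v : Kˣ) :
    nU chevD4 r (v : K) * nU chevD4 r (v : K) = dU chevD4 (prChar chevD4 r (-1)) := by
  have e : nU chevD4 r (v : K) * nU chevD4 r (v : K) =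
      hU chevD4 r (v : K) * (hU chevD4 r ((-v : Kˣ) : K))⁻¹ := by
    rw [hU, hU, mul_inv_rev, facts.nU_inv hr, facts.nU_inv hr, Units.val_neg, neg_neg, neg_neg,
      show nU chevD4 r (1 : K) = (nU chevD4 r (-1 : K))⁻¹ by rw [facts.nU_inv hr, neg_neg]]
    group
  rw [e, facts.hU_eq hr, facts.hU_eq hr, dU_inv, dU_mul]
  refine dU_congr fun s _ => ?_
  show v ^ prE chevD4 r s * ((-v) ^ prE chevD4 r s)⁻¹ = (-1 : Kˣ) ^ prE chevD4 r s
  rw [← div_eq_mul_inv, ← div_zpow]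
  congr 1
  rw [div_eq_iff_eq_mul, neg_mul_neg, one_mul]

variable [Fintype K] {q : ℕ} (C : Ctx K q)

theorem nU_comm {r s : ℕ} (hr : r < chevD4.nroots) (hs : s < chevD4.nroots)
    (h1 : parD4.commB chevD4 r s = true) (h2 : parD4.commB chevD4 r (chevD4.neg s) = true)
    (h3 : parD4.commB chevD4 (chevD4.neg r) s = true)
    (h4 : parD4.commB chevD4 (chevD4.neg r) (chevD4.neg s) = true) (x y : K)
    (C : Ctx K q) : Commute (nU chevD4 r x) (nU chevD4 s y) := by
  have A := C.sig.commute_xU (t := x) (u := y) hr hs h1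
  have B := C.sig.commute_xU (t := x) (u := -y⁻¹) hr (facts.neg_lt hs) h2
  have A' := C.sig.commute_xU (t := -x⁻¹) (u := y) (facts.neg_lt hr) hs h3
  have B' := C.sig.commute_xU (t := -x⁻¹) (u := -y⁻¹) (facts.neg_lt hr) (facts.neg_lt hs) h4
  exact ((A.mul_right B).mul_right A).mul_left ((A'.mul_right B').mul_right A') |>.mul_left
    ((A.mul_right B).mul_right A)

include C

/-- The radical of the parabolic subgroup in the twisted group. -/
noncomputable def Qp (C : Ctx K q) : Subgroup (GL chevD4.Idx K) := rootClosure chevD4 K InP ⊓ twistedD4 K q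

/-- The opposite radical. -/
noncomputable def Qm (C : Ctx K q) : Subgroup (GL chevD4.Idx K) := rootClosure chevD4 K InM ⊓ twistedD4 K q

/-- A root subgroup homomorphism of the long simple root. -/
noncomputable def phi (K : Type v) [Field K] : Matrix.SpecialLinearGroup (Fin 2) K →* GL chevD4.Idx K :=
  Classical.choose (exists_phi K)

omit [Fintype K] C in
theorem phi_spec : (∀ t : K, phi K (upM t) = xU chevD4 d4p2 t) ∧
    ∀ t : K, phi K (loM t) = xU chevD4 d4m2 t :=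
  Classical.choose_spec (exists_phi K)

/-- The Levi homomorphism. -/
noncomputable def Lh : pairGrp C →* GL chevD4.Idx K := psiHom C (phi K) phi_spec

theorem Lh_mem (p : pairGrp C) : Lh C p ∈ twistedD4 K q := psiHom_mem C (phi K) phi_spec p

theorem Lh_injective : Function.Injective (Lh C) := psiHom_injective C (phi K) phi_spec

/-- A pair. -/
noncomputable def pr (a : Kˣ) (g : GL (Fin 2) (Fq C))
    (h : ((nrm C a : Kˣ) : K) = ((dtm g : Fq C) : K)) : pairGrp C :=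
  ⟨(a, g), (mem_pairGrp C).2 (Units.ext (by rw [h, dtm_eq]; rfl))⟩

theorem pr_cond (p : pairGrp C) :
    ((nrm C p.1.1 : Kˣ) : K) = ((dtm p.1.2 : Fq C) : K) := by
  have := congrArg Units.val ((mem_pairGrp C).1 p.2)
  rw [this, dtm_eq]
  rfl

/-- A pair with trivial first entry. -/
noncomputable def p1 (g : GL (Fin 2) (Fq C)) (h : dtm g = 1) : pairGrp C :=
  pr C 1 g (by rw [map_one, h]; rfl)

theorem Lh_apply (p : pairGrp C) : Lh C p = tor C p.1.1 * phi K (sPart C p) := rfl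

theorem tor_one : tor C 1 = 1 := by
  refine (facts.hT_congr fun i hi => ?_).trans facts.hT_one
  have hi4 : i < 4 := simple_vals.2.2.2.2.2.2.2.2.2.2.2.2.2.2.2.2.2.2.2 ▸ hi
  interval_cases i <;> simp [Ctx.vec]

theorem Lh_up (t : Fq C) : Lh C (p1 C (up t) (G2Square.dtm_up t)) = xU chevD4 14 (t : K) := by
  rw [Lh_apply, show (p1 C (up t) (G2Square.dtm_up t)).1.1 = 1 from rfl, tor_one, one_mul,
    show sPart C (p1 C (up t) (G2Square.dtm_up t)) = upM (t : K) from Subtype.ext (by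
      ext i j; fin_cases i <;> fin_cases j <;> simp [sPart, p1, pr, up, upM]),
    phi_spec.1]
  rfl

theorem Lh_low (t : Fq C) : Lh C (p1 C (low t) (G2Square.dtm_low t)) = xU chevD4 9 (t : K) := by
  rw [Lh_apply, show (p1 C (low t) (G2Square.dtm_low t)).1.1 = 1 from rfl, tor_one, one_mul,
    show sPart C (p1 C (low t) (G2Square.dtm_low t)) = loM (t : K) from Subtype.ext (by
      ext i j; fin_cases i <;> fin_cases j <;> simp [sPart, p1, pr, low, loM]),
    phi_spec.2]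
  rfl

theorem p1_mul {g g' : GL (Fin 2) (Fq C)} (h : dtm g = 1) (h' : dtm g' = 1) :
    p1 C g h * p1 C g' h' = p1 C (g * g') (by rw [dtm_mul, h, h', one_mul]) :=
  Subtype.ext (Prod.ext (mul_one 1) rfl)

theorem exists_pair (g : GL (Fin 2) (Fq C)) : ∃ p : pairGrp C, p.1.2 = g := by
  obtain ⟨a, ha⟩ := TwD4.Mult.exists_norm C (dtm g)
    (fun e => G2Square.dtm_ne g (Subtype.ext e))
  exact ⟨pr C a g ha, rfl⟩

/-- The preimage of a diagonal element. -/
theorem diag_pair {h : GL chevD4.Idx K} (hh : h ∈ chevD4.diagonalSubgroup K)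
    (hG : h ∈ twistedD4 K q) : ∃ (a b : Kˣ) (p : pairGrp C), b ^ (q - 1) = 1 ∧
      h = hT chevD4 (C.vec a b) ∧ Lh C p = h ∧ p.1.1 = a ∧ ((p.1.2 0 0 : Fq C) : K) = b ∧
      p.1.2 0 1 = 0 ∧ p.1.2 1 0 = 0 := by
  obtain ⟨a, b, hb, rfl⟩ := C.exists_vec hh (C.sys.le_fix hG)
  have hq := C.q_gt
  have hbF : (b : K) ∈ Fq C := (mem_Fq C).2 (by
    rw [← Units.val_pow_eq_pow_val, show q = q - 1 + 1 by omega, pow_succ, hb, one_mul])
  have hnF : ((nrm C a * b⁻¹ : Kˣ) : K) ∈ Fq C := by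
    rw [Units.val_mul, Units.val_inv_eq_inv_val]
    refine mul_mem ((mem_Fq C).2 ?_) (inv_mem hbF)
    rw [← Units.val_pow_eq_pow_val, ← TwD4.Torus.fu_eq_pow, nrm_fix]
  let M : GL (Fin 2) (Fq C) := gl2 ⟨(b : K), hbF⟩ 0 0 ⟨((nrm C a * b⁻¹ : Kˣ) : K), hnF⟩ (by
    rw [mul_zero, sub_zero]
    exact fun h => (nrm C a).ne_zero (by simpa using congrArg Subtype.val h))
  have hM : ((nrm C a : Kˣ) : K) = ((dtm M : Fq C) : K) := by
    simp [M, dtm, mul_comm (b : K), mul_assoc]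
  refine ⟨a, b, pr C a M hM, hb, rfl, ?_, rfl, rfl, rfl, rfl⟩
  show tor C a * phi K (sPart C (pr C a M hM)) = _
  rw [phi_diag C (phi K) phi_spec b (sPart C (pr C a M hM)) ?_, tor, ← facts.hT_mul]
  · refine facts.hT_congr fun i hi => ?_
    have hi4 : i < 4 := simple_vals.2.2.2.2.2.2.2.2.2.2.2.2.2.2.2.2.2.2.2 ▸ hi
    interval_cases i <;> simp [Ctx.vec]
  · ext i j
    fin_cases i <;> fin_cases j <;> simp [sPart, pr, M, Units.val_inv_eq_inv_val]

theorem vec_mem_range (a : Kˣ) {b : Kˣ} (hb : b ^ (q - 1) = 1) :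
    ∃ p : pairGrp C, Lh C p = hT chevD4 (C.vec a b) :=
  TwD4.Torus.vec_mem_range C (phi K) phi_spec a b hb

theorem Lh_norm (p : pairGrp C) :
    Lh C p ∈ Subgroup.normalizer (rootClosure chevD4 K InP : Set (GL chevD4.Idx K)) ∧
      Lh C p ∈ Subgroup.normalizer (rootClosure chevD4 K InM : Set (GL chevD4.Idx K)) := by
  have hP : rootClosure chevD4 K (fun i => i = 9 ∨ i = 14) ≤
      Subgroup.normalizer (rootClosure chevD4 K InP : Set (GL chevD4.Idx K)) :=
    facts.le_normalizer_rootClosure C.sig.hC fun i hi hQ j hj hP =>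
      (norm_data ⟨i, to24 hi⟩ hQ).1 ⟨j, to24 hj⟩ hP
  have hM : rootClosure chevD4 K (fun i => i = 9 ∨ i = 14) ≤
      Subgroup.normalizer (rootClosure chevD4 K InM : Set (GL chevD4.Idx K)) :=
    facts.le_normalizer_rootClosure C.sig.hC fun i hi hQ j hj hP =>
      (norm_data ⟨i, to24 hi⟩ hQ).2 ⟨j, to24 hj⟩ hP
  have hd : ∀ h ∈ chevD4.diagonalSubgroup K,
      h ∈ Subgroup.normalizer (rootClosure chevD4 K InP : Set (GL chevD4.Idx K)) ⊓
        Subgroup.normalizer (rootClosure chevD4 K InM : Set (GL chevD4.Idx K)) := fun h hh =>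
    ⟨facts.diagonal_le_normalizer _ hh, facts.diagonal_le_normalizer _ hh⟩
  suffices Lh C p ∈ Subgroup.normalizer (rootClosure chevD4 K InP : Set (GL chevD4.Idx K)) ⊓
        Subgroup.normalizer (rootClosure chevD4 K InM : Set (GL chevD4.Idx K)) from this
  rw [Lh_apply]
  refine mul_mem (hd _ (facts.mem_diagonal_iff.2 ⟨_, rfl⟩)) ?_
  have hup : ∀ t : K, phi K (upM t) ∈
      Subgroup.normalizer (rootClosure chevD4 K InP : Set (GL chevD4.Idx K)) ⊓
        Subgroup.normalizer (rootClosure chevD4 K InM : Set (GL chevD4.Idx K)) := fun t => by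
    rw [phi_spec.1]
    exact ⟨hP (xU_mem_rootClosure TwD4.Torus.p2_lt (.inr rfl) t),
      hM (xU_mem_rootClosure TwD4.Torus.p2_lt (.inr rfl) t)⟩
  have hlo : ∀ t : K, phi K (loM t) ∈
      Subgroup.normalizer (rootClosure chevD4 K InP : Set (GL chevD4.Idx K)) ⊓
        Subgroup.normalizer (rootClosure chevD4 K InM : Set (GL chevD4.Idx K)) := fun t => by
    rw [phi_spec.2]
    exact ⟨hP (xU_mem_rootClosure (by decide +kernel) (.inl rfl) t),
      hM (xU_mem_rootClosure (by decide +kernel) (.inl rfl) t)⟩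
  let S := ((Subgroup.normalizer (rootClosure chevD4 K InP : Set (GL chevD4.Idx K)) ⊓
        Subgroup.normalizer (rootClosure chevD4 K InM : Set (GL chevD4.Idx K))).comap (phi K)).toSubmonoid
  have hle : Submonoid.closure ({wM} ∪ Set.range (upM : K → Matrix.SpecialLinearGroup (Fin 2) K)) ≤ S := by
    refine Submonoid.closure_le.2 ?_
    rintro x (rfl | ⟨t, rfl⟩)
    · rw [TwD4.Torus.wM_eq]
      exact S.mul_mem (S.mul_mem (hup _) (hlo _)) (hup _)
    · exact hup t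
  exact hle (sl2_gen (facts.rankOne (F := K) TwD4.Torus.p2_lt) (sPart C p))

theorem conj_Qp (p : pairGrp C) {x : GL chevD4.Idx K} (hx : x ∈ Qp C) :
    Lh C p * x * (Lh C p)⁻¹ ∈ Qp C :=
  Subgroup.mem_inf.2 ⟨(Subgroup.mem_normalizer_iff.1 (Lh_norm C p).1 x).1 hx.1,
    mul_mem (mul_mem (Lh_mem C p) hx.2) (inv_mem (Lh_mem C p))⟩

theorem conj_Qp' (p : pairGrp C) {x : GL chevD4.Idx K} (hx : x ∈ Qp C) :
    (Lh C p)⁻¹ * x * Lh C p ∈ Qp C := by
  have := conj_Qp C p⁻¹ hx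
  rwa [map_inv, inv_inv] at this

theorem conj_Qm (p : pairGrp C) {x : GL chevD4.Idx K} (hx : x ∈ Qm C) :
    Lh C p * x * (Lh C p)⁻¹ ∈ Qm C :=
  Subgroup.mem_inf.2 ⟨(Subgroup.mem_normalizer_iff.1 (Lh_norm C p).2 x).1 hx.1,
    mul_mem (mul_mem (Lh_mem C p) hx.2) (inv_mem (Lh_mem C p))⟩

/-- The parabolic subgroup in the twisted group. -/
noncomputable def P1 : Subgroup (GL chevD4.Idx K) := (Lh C).range ⊔ Qp C

theorem range_le_normalizer :
    (Lh C).range ≤ Subgroup.normalizer (Qp C : Set (GL chevD4.Idx K)) := by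
  rintro _ ⟨p, rfl⟩
  refine normalizer_of_conj (fun x hx => conj_Qp C p hx) fun x hx => ?_
  have := conj_Qp' C p hx
  simpa using this

theorem mem_P1 {g : GL chevD4.Idx K} : g ∈ P1 C ↔ ∃ p, ∃ u ∈ Qp C, g = Lh C p * u := by
  rw [P1, ← SetLike.mem_coe,
    Subgroup.coe_mul_of_left_le_normalizer_right _ _ (range_le_normalizer C), Set.mem_mul]
  constructor
  · rintro ⟨_, ⟨p, rfl⟩, u, hu, rfl⟩; exact ⟨p, u, hu, rfl⟩
  · rintro ⟨p, u, hu, rfl⟩; exact ⟨_, ⟨p, rfl⟩, u, hu, rfl⟩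

/-- A fixed coordinate lies in the fixed field. -/
theorem fixed_coord {r : ℕ} (hr : r < 24) (hρ : parD4.rho r = r) (he : parD4.eps r = 1) {t : K}
    (h : xU chevD4 r t ∈ fixS C.σ) : t ^ q = t := by
  have h1 := C.img_one hr he t
  rw [hρ] at h1
  rw [← C.hf]
  exact facts.xU_left_inj (lt24 hr) (h1.unique h)

theorem fixed_data : parD4.rho 0 = 0 ∧ parD4.eps 0 = 1 ∧ parD4.rho 9 = 9 ∧ parD4.eps 9 = 1 ∧
    parD4.rho 23 = 23 ∧ parD4.eps 23 = 1 ∧ parD4.rho 22 = 22 ∧ parD4.eps 22 = 1 ∧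
    parD4.rho 14 = 14 ∧ parD4.eps 14 = 1 := by decide +kernel

theorem xU_fix {r : ℕ} (hr : r < 24) (hρ : parD4.rho r = r) (he : parD4.eps r = 1) {t : K}
    (ht : t ^ q = t) : xU chevD4 r t ∈ fixS C.σ := by
  have h1 := C.img_one hr he t
  rw [hρ, C.hf, ht] at h1
  exact h1

theorem xU_pos_mem {r : ℕ} (hr : r < 24) (hp : 12 ≤ r) (hρ : parD4.rho r = r)
    (he : parD4.eps r = 1) {t : K} (ht : t ^ q = t) : xU chevD4 r t ∈ twistedD4 K q := by
  refine C.sys.posU_le ⟨xU_fix C hr hρ he ht, xU_mem_rootClosure (lt24 hr) ?_ t⟩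
  show chevD4.nroots / 2 ≤ r
  rw [simple_vals.2.2.2.2.2.1]
  omega

theorem x0_mem {t : K} (ht : t ^ q = t) : xU chevD4 0 t ∈ twistedD4 K q := by
  obtain ⟨r0, e0, r9, e9, -⟩ := fixed_data C
  -- a monomial element of the group moving `-b` to the lowest root
  obtain ⟨m, hm, hmN, hmP⟩ : ∃ m ∈ twistedD4 K q, m ∈ chevD4.monomialSubgroup K ∧
      PermAct m (sW chevD4 (Wa ++ Wb)) := by
    refine ⟨nU chevD4 18 1 * (nU chevD4 13 1 * nU chevD4 12 1) * nU chevD4 14 1, mul_mem ?_ ?_,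
      mul_mem (mul_mem ?_ (mul_mem ?_ ?_)) ?_, ?_⟩
    · have := C.nU_triple 1
      simpa [simple_vals.2.2.2.2.2.2.1, simple_vals.2.2.2.2.2.2.2.2.1,
        simple_vals.2.2.2.2.2.2.2.2.2.1] using this
    · exact C.nU_p2 (one_pow q)
    · exact (nU_perm (w := []) (i := R0) rfl one_ne_zero).1
    · exact (nU_perm (w := []) (i := R2) rfl one_ne_zero).1
    · exact (nU_perm (w := []) (i := R3) rfl one_ne_zero).1
    · exact (nU_perm (w := []) (i := R1) rfl one_ne_zero).1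
    · have e : sW chevD4 (Wa ++ Wb) = sW chevD4 [R0] * (sW chevD4 [R2] * sW chevD4 [R3]) *
          sW chevD4 [R1] := by rw [← sW_append, ← sW_append, ← sW_append]; rfl
      rw [e]
      exact facts.permAct_mul (facts.permAct_mul (nU_perm (w := []) (i := R0) rfl one_ne_zero).2
        (facts.permAct_mul (nU_perm (w := []) (i := R2) rfl one_ne_zero).2
          (nU_perm (w := []) (i := R3) rfl one_ne_zero).2))
        (nU_perm (w := []) (i := R1) rfl one_ne_zero).2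
  obtain ⟨k, hk, hconj⟩ := conj_inv_xU hmN hmP (s := 9) (by norm_num)
  rw [show pv (Wa ++ Wb).reverse 9 = 0 by decide +kernel] at hconj
  have h9 : ∀ s : K, s ^ q = s → xU chevD4 0 (k * s) ∈ twistedD4 K q := fun s hs => by
    rw [← hconj]
    refine mul_mem (mul_mem (inv_mem hm) ?_) hm
    have := Lh_mem C (p1 C (low ⟨s, (mem_Fq C).2 hs⟩) (G2Square.dtm_low _))
    rwa [Lh_low] at this
  have hk' : k ^ q = k :=
    fixed_coord C (r := 0) (by norm_num) r0 e0 (C.sys.le_fix (by simpa using h9 1 (one_pow q)))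
  have := h9 (t / k) (by rw [div_pow, ht, hk'])
  rwa [mul_div_cancel₀ _ hk] at this

theorem n23_mem {t : K} (ht : t ^ q = t) : nU chevD4 23 t ∈ twistedD4 K q := by
  obtain ⟨-, -, -, -, r23, e23, -⟩ := fixed_data C
  have hm : (-t⁻¹) ^ q = -t⁻¹ := by rw [← C.hf, map_neg, map_inv₀, C.hf, ht]
  show xU chevD4 23 t * xU chevD4 (chevD4.neg 23) (-t⁻¹) * xU chevD4 23 t ∈ _
  rw [simple_vals.2.2.2.2.2.2.2.2.2.2.2.2.2.2.2.2.2.2.1]
  exact mul_mem (mul_mem (xU_pos_mem C (by norm_num) (by norm_num) r23 e23 ht) (x0_mem C hm))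
    (xU_pos_mem C (by norm_num) (by norm_num) r23 e23 ht)

theorem n23_perm {t : K} (ht : t ≠ 0) : nU chevD4 23 t ∈ chevD4.monomialSubgroup K ∧
    PermAct (nU chevD4 23 t) (sW chevD4 W23) :=
  nU_perm (w := [R1, R3, R2, R0]) (i := R1) (by decide +kernel) ht

/-- The negative simple triple. -/
noncomputable def eM (t : K) : GL chevD4.Idx K :=
  xU chevD4 5 t * (xU chevD4 10 (C.f t) * xU chevD4 11 (C.f (C.f t)))

theorem eM_mem (t : K) : eM C t ∈ twistedD4 K q := by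
  have h := C.mem_gen (w := [(d4m1, t), (d4m3, t ^ q), (d4m4, t ^ (q ^ 2))])
    (Or.inr ⟨t, (d4m1, d4m3, d4m4), by simp, rfl⟩)
  rw [eM, C.hf t, C.hf (t ^ q), ← pow_mul, ← sq]
  obtain ⟨-, -, -, -, -, -, -, -, -, -, m1, -, m3, m4, -⟩ := simple_vals
  simpa [wU, m1, m3, m4] using h

theorem eM_Qm (t : K) : eM C t ∈ Qm C :=
  ⟨mul_mem (xU_mem_rootClosure (lt24 (by norm_num)) ⟨by norm_num, by norm_num⟩ _)
    (mul_mem (xU_mem_rootClosure (lt24 (by norm_num)) ⟨by norm_num, by norm_num⟩ _)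
      (xU_mem_rootClosure (lt24 (by norm_num)) ⟨by norm_num, by norm_num⟩ _)), eM_mem C t⟩

theorem eB_Qp (t : K) : eB C t ∈ Qp C :=
  ⟨mul_mem (xU_mem_rootClosure (lt24 (by norm_num)) ⟨by norm_num, by norm_num⟩ _)
    (mul_mem (xU_mem_rootClosure (lt24 (by norm_num)) ⟨by norm_num, by norm_num⟩ _)
      (xU_mem_rootClosure (lt24 (by norm_num)) ⟨by norm_num, by norm_num⟩ _)), eB_mem C t⟩

/-- The monomial element of the short simple triple. -/
noncomputable def nB (t : K) : GL chevD4.Idx K := eB C t * eM C (-t⁻¹) * eB C t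

theorem nB_mem (t : K) : nB C t ∈ twistedD4 K q :=
  mul_mem (mul_mem (eB_mem C t) (eM_mem C _)) (eB_mem C t)

theorem nB_eq (t : K) : nB C t =
    nU chevD4 18 t * (nU chevD4 13 (C.f t) * nU chevD4 12 (C.f (C.f t))) := by
  obtain ⟨k31, k41, k43, g31, g41, g43, l31, l41, l43, -, -, -, n1, -, n3, n4⟩ := cross_commutes
  have e := sandwich₃
    (C.sig.commute_xU (t := C.f t) (u := t) (a := d4p3) (b := d4p1) (by decide) (by decide) k31)
    (C.sig.commute_xU (t := C.f (C.f t)) (u := t) (a := d4p4) (b := d4p1) (by decide) (by decide) k41)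
    (C.sig.commute_xU (t := C.f (C.f t)) (u := C.f t) (a := d4p4) (b := d4p3) (by decide) (by decide) k43)
    (C.sig.commute_xU (t := C.f t) (u := -t⁻¹) (a := d4p3) (b := d4m1) (by decide) (by decide) g31)
    (C.sig.commute_xU (t := C.f (C.f t)) (u := -t⁻¹) (a := d4p4) (b := d4m1) (by decide) (by decide) g41)
    (C.sig.commute_xU (t := C.f (C.f t)) (u := C.f (-t⁻¹)) (a := d4p4) (b := d4m3) (by decide) (by decide) g43)
    (C.sig.commute_xU (t := C.f (-t⁻¹)) (u := t) (a := d4m3) (b := d4p1) (by decide) (by decide) l31)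
    (C.sig.commute_xU (t := C.f (C.f (-t⁻¹))) (u := t) (a := d4m4) (b := d4p1) (by decide) (by decide) l41)
    (C.sig.commute_xU (t := C.f (C.f (-t⁻¹))) (u := C.f t) (a := d4m4) (b := d4p3) (by decide) (by decide) l43)
  obtain ⟨-, -, -, -, -, -, q1, -, q3, q4, m1, -, m3, m4, v1, v3, v4, -⟩ := simple_vals
  rw [nU, nU, nU, v1, v3, v4, nB, eB, eM]
  simp only [q1, q3, q4, m1, m3, m4, map_neg, map_inv₀] at e ⊢
  exact e

theorem nB_perm {t : K} (ht : t ≠ 0) : nB C t ∈ chevD4.monomialSubgroup K ∧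
    PermAct (nB C t) (sW chevD4 Wa) := by
  have ht1 : C.f t ≠ 0 := by rwa [map_ne_zero]
  have ht2 : C.f (C.f t) ≠ 0 := by rwa [map_ne_zero]
  have h1 := nU_perm (w := []) (i := R0) (r := 18) simple_vals.1 ht
  have h2 := nU_perm (w := []) (i := R2) (r := 13) simple_vals.2.2.1 ht1
  have h3 := nU_perm (w := []) (i := R3) (r := 12) simple_vals.2.2.2.1 ht2
  rw [nB_eq, show Wa = [R0] ++ ([R2] ++ [R3]) from rfl, sW_append, sW_append]
  exact ⟨mul_mem h1.1 (mul_mem h2.1 h3.1), facts.permAct_mul h1.2 (facts.permAct_mul h2.2 h3.2)⟩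

theorem orbit_nU_comm (x y : K) : Commute (nU chevD4 18 x) (nU chevD4 13 y) ∧
    Commute (nU chevD4 18 x) (nU chevD4 12 y) ∧ Commute (nU chevD4 13 x) (nU chevD4 12 y) := by
  refine ⟨?_, ?_, ?_⟩
  · obtain ⟨a, b, h1, h2, h3, h4⟩ := orbit_comm (18, 13) (by simp)
    exact nU_comm (lt24 a) (lt24 b) h1 h2 h3 h4 x y C
  · obtain ⟨a, b, h1, h2, h3, h4⟩ := orbit_comm (18, 12) (by simp)
    exact nU_comm (lt24 a) (lt24 b) h1 h2 h3 h4 x y C
  · obtain ⟨a, b, h1, h2, h3, h4⟩ := orbit_comm (13, 12) (by simp)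
    exact nU_comm (lt24 a) (lt24 b) h1 h2 h3 h4 x y C

theorem nB_inv (t : K) : (nB C t)⁻¹ = nB C (-t) := by
  rw [nB_eq, nB_eq, mul_inv_rev, mul_inv_rev, facts.nU_inv (lt24 (by norm_num)),
    facts.nU_inv (lt24 (by norm_num)), facts.nU_inv (lt24 (by norm_num)), map_neg, map_neg,
    (orbit_nU_comm C (-C.f t) (-C.f (C.f t))).2.2.symm.eq]
  exact (((orbit_nU_comm C (-t) (-C.f t)).1.mul_right
    (orbit_nU_comm C (-t) (-C.f (C.f t))).2.1).symm).eq

theorem nB_mul_neg_one (t : Kˣ) : nB C (t : K) * nB C (-1) = tor C t := by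
  have hF := facts
  obtain ⟨s0, s1, s2, s3, -, -, -, -, -, -⟩ := simple_vals
  rw [nB_eq, nB_eq, map_neg, map_one, map_neg, map_one,
    (((orbit_nU_comm C (-1 : K) (C.f (t : K))).1.symm.mul_left
      (orbit_nU_comm C (-1 : K) (C.f (C.f (t : K)))).2.1.symm)).mul_mul_mul_comm,
    ((orbit_nU_comm C (-1 : K) (C.f (C.f (t : K)))).2.2.symm).mul_mul_mul_comm, tor]
  show hU chevD4 18 (t : K) * (hU chevD4 13 (C.f (t : K)) * hU chevD4 12 (C.f (C.f (t : K)))) = _
  rw [show C.f (C.f (t : K)) = ((C.fu (C.fu t) : Kˣ) : K) from rfl,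
    show C.f (t : K) = ((C.fu t : Kˣ) : K) from rfl, ← s0, ← s2, ← s3]
  have h4 : chevD4.rank = 4 := simple_vals.2.2.2.2.2.2.2.2.2.2.2.2.2.2.2.2.2.2.2
  rw [hF.hU_single (by omega), hF.hU_single (by omega), hF.hU_single (by omega), ← hF.hT_mul,
    ← hF.hT_mul]
  refine hF.hT_congr fun i hi => ?_
  have hi4 : i < 4 := h4 ▸ hi
  interval_cases i <;> simp [Ctx.vec]

theorem nB_neg_one (t : Kˣ) : nB C (-1) = nB C (-(t : K)) * tor C t := by
  rw [← nB_mul_neg_one C t, ← nB_inv C (t : K), inv_mul_cancel_left]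

/-- Conjugation by `nB 1` turns the positive triple into the negative one. -/
theorem nB_conj_eB (t : K) : nB C 1 * eB C t * (nB C 1)⁻¹ = eM C (-t) := by
  obtain ⟨-, -, -, -, -, -, -, -, -, -, -, -, -, -, v1, v3, v4, -⟩ := simple_vals
  have key : ∀ r s : ℕ, r < 24 → s < 24 → parD4.commB chevD4 r s = true →
      parD4.commB chevD4 (chevD4.neg r) s = true → ∀ y : K,
      nU chevD4 r 1 * xU chevD4 s y * (nU chevD4 r 1)⁻¹ = xU chevD4 s y := by
    intro r s hr hs h1 h3 y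
    have A := C.sig.commute_xU (t := (1 : K)) (u := y) (lt24 hr) (lt24 hs) h1
    have B := C.sig.commute_xU (t := -(1 : K)⁻¹) (u := y) (facts.neg_lt (lt24 hr)) (lt24 hs) h3
    exact ((A.mul_left B).mul_left A).mul_inv_cancel
  obtain ⟨-, -, a1, a2, a3, -⟩ := orbit_comm (18, 13) (by simp)
  obtain ⟨-, -, b1, b2, b3, -⟩ := orbit_comm (18, 12) (by simp)
  obtain ⟨-, -, c1, c2, c3, -⟩ := orbit_comm (13, 12) (by simp)
  have sym : ∀ p ∈ [((13 : ℕ), (18 : ℕ)), (12, 18), (12, 13)],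
      parD4.commB chevD4 p.1 p.2 = true ∧ parD4.commB chevD4 (chevD4.neg p.1) p.2 = true ∧
      parD4.commB chevD4 p.1 (chevD4.neg p.2) = true ∧
      parD4.commB chevD4 (chevD4.neg p.1) (chevD4.neg p.2) = true := by decide +kernel
  obtain ⟨-, -, -, a4⟩ := sym (13, 18) (by simp)
  obtain ⟨-, -, b5, b4⟩ := sym (12, 18) (by simp)
  obtain ⟨-, -, c5, c4⟩ := sym (12, 13) (by simp)
  have a5 := (sym (13, 18) (by simp)).2.2.1
  obtain ⟨h18, h13, h12⟩ : (18 : ℕ) < chevD4.nroots ∧ (13 : ℕ) < chevD4.nroots ∧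
      (12 : ℕ) < chevD4.nroots := ⟨lt24 (by norm_num), lt24 (by norm_num), lt24 (by norm_num)⟩
  rw [nB_eq, map_one, map_one]
  set A := nU chevD4 18 (1 : K) with hA
  set B := nU chevD4 13 (1 : K) with hB
  set D := nU chevD4 12 (1 : K) with hD
  set x := xU chevD4 18 t with hx
  set y := xU chevD4 13 (C.f t) with hy
  set z := xU chevD4 12 (C.f (C.f t)) with hz
  have e18 : A * x * A⁻¹ = xU chevD4 5 (-t) := by rw [hA, hx, facts.nU_conj_self h18, v1]
  have e13 : B * y * B⁻¹ = xU chevD4 10 (-C.f t) := by rw [hB, hy, facts.nU_conj_self h13, v3]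
  have e12 : D * z * D⁻¹ = xU chevD4 11 (-C.f (C.f t)) := by
    rw [hD, hz, facts.nU_conj_self h12, v4]
  have D18 : D * x * D⁻¹ = x :=
    key 12 18 (by norm_num) (by norm_num) (sym (12, 18) (by simp)).1 (sym (12, 18) (by simp)).2.1 t
  have B18 : B * x * B⁻¹ = x :=
    key 13 18 (by norm_num) (by norm_num) (sym (13, 18) (by simp)).1 (sym (13, 18) (by simp)).2.1 t
  have D13 : D * y * D⁻¹ = y :=
    key 12 13 (by norm_num) (by norm_num) (sym (12, 13) (by simp)).1 (sym (12, 13) (by simp)).2.1 _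
  have A10 : A * xU chevD4 10 (-C.f t) * A⁻¹ = xU chevD4 10 (-C.f t) :=
    key 18 10 (by norm_num) (by norm_num) (v3 ▸ a2) (by decide +kernel) _
  have A11 : A * xU chevD4 11 (-C.f (C.f t)) * A⁻¹ = xU chevD4 11 (-C.f (C.f t)) :=
    key 18 11 (by norm_num) (by norm_num) (v4 ▸ b2) (by decide +kernel) _
  have B11 : B * xU chevD4 11 (-C.f (C.f t)) * B⁻¹ = xU chevD4 11 (-C.f (C.f t)) :=
    key 13 11 (by norm_num) (by norm_num) (v4 ▸ c2) (by decide +kernel) _
  show A * (B * D) * (x * (y * z)) * (A * (B * D))⁻¹ = _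
  rw [eM, map_neg, map_neg, show A * (B * D) * (x * (y * z)) * (A * (B * D))⁻¹ =
    A * (B * (D * x * D⁻¹) * B⁻¹) * A⁻¹ * ((A * (B * (D * y * D⁻¹) * B⁻¹) * A⁻¹) *
      (A * (B * (D * z * D⁻¹) * B⁻¹) * A⁻¹)) by group,
    D18, B18, e18, D13, e13, A10, e12, B11, A11]

theorem nB_n23 (s t : K) : Commute (nB C s) (nU chevD4 23 t) := by
  have h : ∀ r ∈ [18, 13, 12, 5, 10, 11], ∀ u : K, Commute (xU chevD4 r u) (nU chevD4 23 t) := by
    intro r hr u
    have hr24 : r < 24 := by simp at hr; omega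
    show Commute _ (xU chevD4 23 t * xU chevD4 (chevD4.neg 23) (-t⁻¹) * xU chevD4 23 t)
    rw [simple_vals.2.2.2.2.2.2.2.2.2.2.2.2.2.2.2.2.2.2.1]
    have A := C.sig.commute_xU (t := u) (u := t) (lt24 hr24) (lt24 (by norm_num))
      (comm_data r hr 23 (by simp))
    have B := C.sig.commute_xU (t := u) (u := -t⁻¹) (lt24 hr24) (lt24 (by norm_num))
      (comm_data r hr 0 (by simp))
    exact (A.mul_right B).mul_right A
  have hB : ∀ u, Commute (eB C u) (nU chevD4 23 t) := fun u =>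
    (h 18 (by simp) _).mul_left ((h 13 (by simp) _).mul_left (h 12 (by simp) _))
  have hM : ∀ u, Commute (eM C u) (nU chevD4 23 t) := fun u =>
    (h 5 (by simp) _).mul_left ((h 10 (by simp) _).mul_left (h 11 (by simp) _))
  exact ((hB s).mul_left (hM _)).mul_left (hB s)

theorem eB_comm_x (s u : K) : Commute (eB C s) (xU chevD4 23 u) ∧ Commute (eB C s) (xU chevD4 0 u) ∧
    Commute (eM C s) (xU chevD4 23 u) := by
  have h : ∀ r ∈ [18, 13, 12, 5, 10, 11], ∀ j ∈ [0, 23], ∀ w : K,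
      Commute (xU chevD4 r w) (xU chevD4 j u) := fun r hr j hj w =>
    C.sig.commute_xU (lt24 (by simp at hr; omega)) (lt24 (by simp at hj; omega))
      (comm_data r hr j hj) _ _
  exact ⟨(h 18 (by simp) 23 (by simp) _).mul_left ((h 13 (by simp) 23 (by simp) _).mul_left
      (h 12 (by simp) 23 (by simp) _)),
    (h 18 (by simp) 0 (by simp) _).mul_left ((h 13 (by simp) 0 (by simp) _).mul_left
      (h 12 (by simp) 0 (by simp) _)),
    (h 5 (by simp) 23 (by simp) _).mul_left ((h 10 (by simp) 23 (by simp) _).mul_left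
      (h 11 (by simp) 23 (by simp) _))⟩

theorem posO_one {r : ℕ} (hr : r < chevD4.nroots) :
    (O (⟨1, by decide⟩ : Fin spec.length)).posO DataD4.co r ↔ r ∈ [18, 13, 12] :=
  by
    refine Iff.trans (posO_iff_list (p := ([0, 2, 3], [0, 2, 3])) DataD4.chk_arrays lists.2.1 r hr) ?_
    simp [simple_vals.2.2.2.2.2.2.1, simple_vals.2.2.2.2.2.2.2.2.1,
      simple_vals.2.2.2.2.2.2.2.2.2.1]

theorem posO_zero {r : ℕ} (hr : r < chevD4.nroots) :
    (O (⟨0, by decide⟩ : Fin spec.length)).posO DataD4.co r ↔ r = 14 :=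
  by
    refine Iff.trans (posO_iff_list (p := ([1], [1])) DataD4.chk_arrays lists.1.1 r hr) ?_
    simp [simple_vals.2.2.2.2.2.2.2.1]

theorem pos_closed : ∀ i < chevD4.nroots, chevD4.nroots / 2 ≤ i → ∀ j < chevD4.nroots,
    chevD4.nroots / 2 ≤ j → ∀ c ∈ chevD4.commTerms i j, chevD4.nroots / 2 ≤ c.1 :=
  fun _ hi hip _ hj hjp _ hc => le_trans hip (facts.commTerms_lt hi hj hip hjp hc).2.1.le

/-- Splitting off the short simple component. -/
theorem exists_eB {u : GL chevD4.Idx K} (hu : u ∈ twistedD4 K q)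
    (hp : u ∈ rootClosure chevD4 K (chevD4.nroots / 2 ≤ ·)) :
    ∃ γ : K, ∃ w ∈ RQ K, w ∈ twistedD4 K q ∧ u = w * eB C γ := by
  obtain ⟨a, haf, ha, c, hcf, hc, rfl⟩ := C.sys.split_fix (⟨1, by decide⟩ : Fin spec.length)
    (A := (chevD4.nroots / 2 ≤ ·)) (fun _ _ h => h)
    (fun i hi hiP j hj hjA _ _ c hc => pos_closed C i hi hiP.1 j hj hjA c hc)
    (fun r hr h => C.sig.ok.rho_pos r hr h) hp (C.sys.le_fix hu)
  obtain ⟨t, rfl⟩ := C.fix_p134 hcf hc
  have haR : a ∈ RQ K := rootClosure_mono (fun r hr h => by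
    refine (TwD4.Mult.radical_roots.1 ⟨r, to24 hr⟩).1 ⟨?_, fun h' => h.2 ?_⟩
    · have := h.1
      rw [simple_vals.2.2.2.2.2.1] at this
      exact this
    · exact ((posO_one C hr).2 h').2) ha
  refine ⟨t, a, haR, TwD4.Mult.mem_G_of_fix C haR haf, ?_⟩
  rw [TwD4.Mult.eB_eq]

/-- Splitting off the long simple component. -/
theorem pos_le_P1 {u : GL chevD4.Idx K} (hu : u ∈ twistedD4 K q)
    (hp : u ∈ rootClosure chevD4 K (chevD4.nroots / 2 ≤ ·)) : u ∈ P1 C := by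
  obtain ⟨a, haf, ha, c, hcf, hc, rfl⟩ := C.sys.split_fix (⟨0, by decide⟩ : Fin spec.length)
    (A := (chevD4.nroots / 2 ≤ ·)) (fun _ _ h => h)
    (fun i hi hiP j hj hjA _ _ c hc => pos_closed C i hi hiP.1 j hj hjA c hc)
    (fun r hr h => C.sig.ok.rho_pos r hr h) hp (C.sys.le_fix hu)
  obtain ⟨t, ht, rfl⟩ := C.fix_p2 hcf hc
  have haR : a ∈ rootClosure chevD4 K InP := rootClosure_mono (fun r hr h => by
    refine ⟨?_, fun h' => h.2 ?_⟩
    · have := h.1
      rw [simple_vals.2.2.2.2.2.1] at this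
      exact this
    · exact ((posO_zero C hr).2 h').2) ha
  refine mul_mem (Subgroup.mem_sup_right (Subgroup.mem_inf.2 ⟨haR, ?haG⟩)) (Subgroup.mem_sup_left ?hc)
  case haG => exact C.sys.posU_le ⟨haf, rootClosure_mono (fun r hr h => h.1) ha⟩
  case hc =>
    refine ⟨p1 C (up ⟨t, (mem_Fq C).2 ht⟩) (G2Square.dtm_up _), ?_⟩
    rw [Lh_up]
    simp [wU, simple_vals.2.2.2.2.2.2.2.1]

theorem borel_le_P1 {b : GL chevD4.Idx K} (hb : b ∈ twistedD4 K q)
    (hB : b ∈ chevD4.borelSubgroup K) : b ∈ P1 C := by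
  obtain ⟨u, huG, hu, h, hhG, hh, rfl⟩ := C.sys.mem_B hb hB
  obtain ⟨a, b, p, -, -, hp, -⟩ := diag_pair C hh hhG
  exact mul_mem (pos_le_P1 C huG hu) (Subgroup.mem_sup_left ⟨p, hp⟩)

theorem RQ_norm {g : GL chevD4.Idx K}
    (hg : g ∈ rootClosure chevD4 K (· ∈ [18, 13, 12, 5, 10, 11])) :
    g ∈ Subgroup.normalizer (RQ K : Set (GL chevD4.Idx K)) :=
  facts.le_normalizer_rootClosure C.sig.hC
    (fun i hi hQ j hj hP => norm_RQ ⟨i, to24 hi⟩ hQ ⟨j, to24 hj⟩ hP) hg

theorem triples_norm (t : K) : eB C t ∈ Subgroup.normalizer (RQ K : Set (GL chevD4.Idx K)) ∧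
    eM C t ∈ Subgroup.normalizer (RQ K : Set (GL chevD4.Idx K)) := by
  have h : ∀ r ∈ [18, 13, 12, 5, 10, 11], ∀ u : K,
      xU chevD4 r u ∈ rootClosure chevD4 K (· ∈ [18, 13, 12, 5, 10, 11]) := fun r hr u =>
    xU_mem_rootClosure (lt24 (by simp at hr; omega)) hr u
  exact ⟨RQ_norm C (mul_mem (h 18 (by simp) _) (mul_mem (h 13 (by simp) _) (h 12 (by simp) _))),
    RQ_norm C (mul_mem (h 5 (by simp) _) (mul_mem (h 10 (by simp) _) (h 11 (by simp) _)))⟩

theorem nB_norm (t : K) : nB C t ∈ Subgroup.normalizer (RQ K : Set (GL chevD4.Idx K)) :=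
  mul_mem (mul_mem (triples_norm C t).1 (triples_norm C _).2) (triples_norm C t).1

end CfsgLib.Known.D4Square
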