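import Cfsg.Agent.Lib.Known.D4Square.Elems
import Cfsg.Agent.Lib.Known.G2Singer.Regular

/-!
The semisimple element of `³D₄`: no fixed points on the radicals, conjugate to its inverse.
-/

set_option autoImplicit false
set_option maxRecDepth 20000
set_option maxHeartbeats 1000000

namespace CfsgLib.Known.D4Square

open Cfsg.Lie CfsgLib.Chev CfsgLib.Chev.TwD4
open CfsgLib.Chev.TwD4.Torus (Fq mem_Fq nrm nrm_fix pairGrp sPart tor loM)
open CfsgLib.Known.G2Square (gl2 up low dd gl_ext trc dtm dtm_eq dtm_mul)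

universe v

/-- The coordinates of the radical. -/
abbrev LP : List ℕ := [18, 13, 12, 19, 16, 15, 20, 21, 17, 22, 23]

theorem LP_data : coordB chevD4 LP = true ∧ coordB chevD4 [22, 23] = true ∧
    (∀ r : Fin 24, InP r.val ↔ r.val ∈ LP) ∧
    (∀ r ∈ [18, 13, 12, 19, 16, 15, 20, 21, 17], ∃ k ∈ [(-1 : ℤ), 0, 1],
      (chevD4.cartan 0 r + k, chevD4.cartan 2 r + k, chevD4.cartan 3 r + k) ∈
        [((2 : ℤ), (0 : ℤ), (0 : ℤ)), (-2, 0, 0), (0, 2, 0), (0, -2, 0), (0, 0, 2), (0, 0, -2)]) := by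
  decide +kernel

theorem doublet_data : chevD4.commTerms 9 23 = [(22, 1, 1, 1)] ∧ chevD4.commTerms 9 22 = [] ∧
    chevD4.commTerms 14 23 = [] ∧ chevD4.commTerms 14 22 = [(23, 1, 1, 1)] ∧
    chevD4.commTerms 22 23 = [] ∧ 23 ≠ chevD4.neg 9 ∧ 22 ≠ chevD4.neg 9 ∧ 23 ≠ chevD4.neg 14 ∧
    22 ≠ chevD4.neg 14 ∧ 23 ≠ chevD4.neg 22 ∧ 23 ≠ chevD4.neg 9 ∧
    chevD4.cartan 0 22 = 1 ∧ chevD4.cartan 1 22 = -1 ∧ chevD4.cartan 2 22 = 1 ∧
    chevD4.cartan 3 22 = 1 ∧ chevD4.cartan 0 23 = 0 ∧ chevD4.cartan 1 23 = 1 ∧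
    chevD4.cartan 2 23 = 0 ∧ chevD4.cartan 3 23 = 0 := by decide +kernel

theorem pair_data : pv Wp.reverse 14 = 9 ∧ pv Wp.reverse 9 = 14 ∧
    (∀ r : Fin 24, pv Wp.reverse r.val = chevD4.neg r.val) ∧
    (∀ r : Fin 24, InM r.val → InP (pv Wp.reverse r.val)) ∧
    prE chevD4 18 14 + prE chevD4 13 14 + prE chevD4 12 14 + prE chevD4 23 14 = -2 := by
  decide +kernel

variable {K : Type v} [Field K] [Fintype K] {q : ℕ} (C : Ctx K q)
include C

/-- The element of the doublet. -/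
noncomputable def Ed (b a : K) : GL chevD4.Idx K := xU chevD4 23 b * xU chevD4 22 a

theorem Ed_swap (b a : K) : Commute (xU chevD4 22 a) (xU chevD4 23 b) := by
  show xU chevD4 22 a * xU chevD4 23 b = xU chevD4 23 b * xU chevD4 22 a
  rw [facts.xU_comm C.sig.hC (r := 22) (s := 23) (lt24 (by norm_num)) (lt24 (by norm_num))
    (by norm_num) doublet_data.2.2.2.2.2.2.2.2.2.1, cwR, doublet_data.2.2.2.2.1]
  simp [wU]

theorem conj_low_doublet (t b a : K) :
    xU chevD4 9 t * Ed b a * (xU chevD4 9 t)⁻¹ = Ed b (a + t * b) := by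
  obtain ⟨c1, c2, -, -, -, n1, n2, -⟩ := doublet_data
  have h23 : xU chevD4 23 b * xU chevD4 9 t =
      xU chevD4 9 t * xU chevD4 23 b * xU chevD4 22 (-(t * b)) := by
    rw [facts.xU_comm C.sig.hC (r := 9) (s := 23) (lt24 (by norm_num)) (lt24 (by norm_num))
      (by norm_num) n1, cwR, c1]
    simp [wU]
  have h22 : ∀ u : K, Commute (xU chevD4 9 t) (xU chevD4 22 u) := fun u => by
    show _ = _
    rw [facts.xU_comm C.sig.hC (r := 9) (s := 22) (lt24 (by norm_num)) (lt24 (by norm_num))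
      (by norm_num) n2, cwR, c2]
    simp [wU]
  have h22' : ∀ u : K, (xU chevD4 22 u)⁻¹ = xU chevD4 22 (-u) := fun u =>
    facts.xU_inv (lt24 (by norm_num)) u
  have e : xU chevD4 9 t * xU chevD4 23 b = xU chevD4 23 b * xU chevD4 22 (t * b) * xU chevD4 9 t := by
    rw [mul_assoc (xU chevD4 23 b), ← (h22 (t * b)).eq, ← mul_assoc, h23, ← h22', inv_mul_cancel_right]
  rw [Ed, Ed, ← mul_assoc, e, mul_assoc (xU chevD4 23 b * xU chevD4 22 (t * b)), (h22 a).eq,
    ← mul_assoc, mul_inv_cancel_right, mul_assoc, facts.xU_add (lt24 (by norm_num)), add_comm]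

theorem conj_up_doublet (t b a : K) :
    xU chevD4 14 t * Ed b a * (xU chevD4 14 t)⁻¹ = Ed (b + t * a) a := by
  obtain ⟨-, -, c3, c4, -, -, -, n3, n4, -⟩ := doublet_data
  have h22 : xU chevD4 22 a * xU chevD4 14 t =
      xU chevD4 14 t * xU chevD4 22 a * xU chevD4 23 (-(t * a)) := by
    rw [facts.xU_comm C.sig.hC (r := 14) (s := 22) (lt24 (by norm_num)) (lt24 (by norm_num))
      (by norm_num) n4, cwR, c4]
    simp [wU]
  have h23 : ∀ u : K, Commute (xU chevD4 14 t) (xU chevD4 23 u) := fun u => by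
    show _ = _
    rw [facts.xU_comm C.sig.hC (r := 14) (s := 23) (lt24 (by norm_num)) (lt24 (by norm_num))
      (by norm_num) n3, cwR, c3]
    simp [wU]
  have h23' : ∀ u : K, (xU chevD4 23 u)⁻¹ = xU chevD4 23 (-u) := fun u =>
    facts.xU_inv (lt24 (by norm_num)) u
  have e : xU chevD4 14 t * xU chevD4 22 a =
      xU chevD4 22 a * xU chevD4 23 (t * a) * xU chevD4 14 t := by
    rw [mul_assoc (xU chevD4 22 a), ← (h23 (t * a)).eq, ← mul_assoc, h22, ← h23', inv_mul_cancel_right]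
  rw [Ed, Ed, ← mul_assoc, (h23 b).eq, mul_assoc (xU chevD4 23 b), e, ← mul_assoc (xU chevD4 23 b),
    mul_inv_cancel_right, (Ed_swap C (t * a) a).eq, ← mul_assoc, facts.xU_add (lt24 (by norm_num))]

theorem conj_phi_doublet (S : Matrix.SpecialLinearGroup (Fin 2) K) : ∀ b a : K,
    phi K S * Ed b a * (phi K S)⁻¹ = Ed (S 0 0 * b + S 0 1 * a) (S 1 0 * b + S 1 1 * a) := by
  let T : Submonoid (Matrix.SpecialLinearGroup (Fin 2) K) :=
    { carrier := {S | ∀ b a : K, phi K S * Ed b a * (phi K S)⁻¹ =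
        Ed (S 0 0 * b + S 0 1 * a) (S 1 0 * b + S 1 1 * a)}
      one_mem' := fun b a => by simp
      mul_mem' := fun {x y} hx hy b a => by
        rw [map_mul, show phi K x * phi K y * Ed b a * (phi K x * phi K y)⁻¹ =
          phi K x * (phi K y * Ed b a * (phi K y)⁻¹) * (phi K x)⁻¹ by group, hy, hx]
        simp only [Matrix.SpecialLinearGroup.coe_mul, Matrix.mul_apply, Fin.sum_univ_two]
        congr 1 <;> ring }
  have hp : ∀ t : K, upM t ∈ T := fun t b a => by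
    rw [phi_spec.1, show d4p2 = 14 from rfl, conj_up_doublet C]
    simp [upM]
  have hl : ∀ t : K, loM t ∈ T := fun t b a => by
    rw [phi_spec.2, show d4m2 = 9 from rfl, conj_low_doublet C]
    simp [loM, add_comm]
  have hle : Submonoid.closure ({wM} ∪ Set.range (upM : K → Matrix.SpecialLinearGroup (Fin 2) K)) ≤ T := by
    refine Submonoid.closure_le.2 ?_
    rintro x (rfl | ⟨t, rfl⟩)
    · rw [TwD4.Torus.wM_eq]
      exact T.mul_mem (T.mul_mem (hp _) (hl _)) (hp _)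
    · exact hp t
  exact hle (sl2_gen (facts.rankOne (F := K) TwD4.Torus.p2_lt) S)

theorem tor_char (a : Kˣ) (r : ℕ) :
    (∏ i ∈ Finset.range chevD4.rank, C.vec a 1 i ^ chevD4.cartan i r) =
      a ^ chevD4.cartan 0 r * C.fu a ^ chevD4.cartan 2 r * C.fu (C.fu a) ^ chevD4.cartan 3 r := by
  rw [show chevD4.rank = 4 from tables.2.1]
  simp only [Finset.prod_range_succ, Finset.prod_range_zero, one_mul]
  show a ^ _ * (1 : Kˣ) ^ _ * C.fu a ^ _ * C.fu (C.fu a) ^ _ = _
  rw [one_zpow, mul_one]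

theorem Lh_doublet (p : pairGrp C) (b a : K) :
    Lh C p * Ed b a * (Lh C p)⁻¹ =
      Ed ((p.1.2 0 0 : Fq C) * b + (p.1.2 0 1 : Fq C) * a)
        ((p.1.2 1 0 : Fq C) * b + (p.1.2 1 1 : Fq C) * a) := by
  obtain ⟨-, -, -, -, -, -, -, -, -, -, -, e0, e1, e2, e3, f0, f1, f2, f3⟩ := doublet_data
  rw [Lh_apply, show tor C p.1.1 * phi K (sPart C p) * Ed b a * (tor C p.1.1 * phi K (sPart C p))⁻¹ =
    tor C p.1.1 * (phi K (sPart C p) * Ed b a * (phi K (sPart C p))⁻¹) * (tor C p.1.1)⁻¹ by group,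
    conj_phi_doublet C]
  have t23 : ∀ u : K, tor C p.1.1 * xU chevD4 23 u * (tor C p.1.1)⁻¹ = xU chevD4 23 u := fun u => by
    rw [tor, facts.hT_conj_xU _ (lt24 (by norm_num)), tor_char, f0, f2, f3]
    simp
  have t22 : ∀ u : K, tor C p.1.1 * xU chevD4 22 u * (tor C p.1.1)⁻¹ =
      xU chevD4 22 (((nrm C p.1.1 : Kˣ) : K) * u) := fun u => by
    rw [tor, facts.hT_conj_xU _ (lt24 (by norm_num)), tor_char, e0, e2, e3]
    simp only [zpow_one]
    rfl
  rw [Ed, Ed, show ∀ X Y : GL chevD4.Idx K, tor C p.1.1 * (X * Y) * (tor C p.1.1)⁻¹ =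
    tor C p.1.1 * X * (tor C p.1.1)⁻¹ * (tor C p.1.1 * Y * (tor C p.1.1)⁻¹) from fun X Y => by group,
    t23, t22]
  congr 2
  show _ * ((((nrm C p.1.1)⁻¹ : Kˣ) : K) * ((p.1.2 : Matrix (Fin 2) (Fin 2) (Fq C)) 1 0 : K) * b +
    (((nrm C p.1.1)⁻¹ : Kˣ) : K) * ((p.1.2 : Matrix (Fin 2) (Fin 2) (Fq C)) 1 1 : K) * a) = _
  rw [Units.val_inv_eq_inv_val]
  field_simp

/-- A pair of the kind used for the semisimple element has no fixed point on the radical. -/
theorem fix_eq_one {p : pairGrp C} {M : ℕ} (hM : p.1.2 ^ M = 1) (hz : (p.1.1 ^ M) * (p.1.1 ^ M) ≠ 1)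
    (hev : 1 - trc p.1.2 + dtm p.1.2 ≠ 0) {w : GL chevD4.Idx K} (hw : w ∈ Qp C)
    (hfix : Lh C p * w * (Lh C p)⁻¹ = w) : w = 1 := by
  obtain ⟨hco, hco2, hmem, htab⟩ := LP_data
  obtain ⟨hwR, hwG⟩ := Subgroup.mem_inf.1 hw
  -- the power is a torus element
  have hpow : ∀ n : ℕ, Lh C p ^ n * w * (Lh C p ^ n)⁻¹ = w := by
    intro n
    induction n with
    | zero => simp
    | succ n ih =>
      rw [pow_succ, show Lh C p ^ n * Lh C p * w * (Lh C p ^ n * Lh C p)⁻¹ =
        Lh C p ^ n * (Lh C p * w * (Lh C p)⁻¹) * (Lh C p ^ n)⁻¹ by group, hfix, ih]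
  set a := p.1.1 ^ M with ha
  have hpM2 : (p ^ M).1.2 = 1 := by rw [SubmonoidClass.coe_pow, Prod.pow_snd, hM]
  have hpM1 : (p ^ M).1.1 = a := by rw [SubmonoidClass.coe_pow, Prod.pow_fst, ha]
  have hN : nrm C a = 1 := by
    have h1 := pr_cond C (p ^ M)
    rw [hpM1, hpM2] at h1
    exact Units.ext (by rw [h1]; simp [dtm])
  have hy : Lh C p ^ M = tor C a := by
    rw [← map_pow, Lh_apply, hpM1]
    have : sPart C (p ^ M) = 1 := by
      refine Subtype.ext ?_
      show (!![_, _; _, _] : Matrix (Fin 2) (Fin 2) K) = 1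
      rw [hpM1, hpM2, hN]
      ext i j
      fin_cases i <;> fin_cases j <;> simp
    rw [this, map_one, mul_one]
  have hyfix := hy ▸ hpow M
  rw [rootClosure_congr (Q := (· ∈ LP)) (fun r hr => hmem ⟨r, to24 hr⟩)] at hwR
  obtain ⟨ts, hts, rfl⟩ := facts.exists_coords C.sig.hC hco w hwR
  set χ : ℕ → Kˣ := fun r => ∏ i ∈ Finset.range chevD4.rank, C.vec a 1 i ^ chevD4.cartan i r with hχ
  have hts' : ts.length = 11 := hts
  match ts, hts' with
  | [t18, t13, t12, t19, t16, t15, t20, t21, t17, t22, t23], _ =>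
  rw [tor, hT, G2Singer.conj_wU facts (facts.isWeight_hT (C.vec a 1)) _ (fun e he => by
    refine (Facts.coord_lt hco e.1 ?_).1
    exact (List.of_mem_zip he).1)] at hyfix
  have huniq := facts.coords_unique C.sig.hC hco
    (ts := [(χ 18 : K) * t18, (χ 13 : K) * t13, (χ 12 : K) * t12, (χ 19 : K) * t19,
      (χ 16 : K) * t16, (χ 15 : K) * t15, (χ 20 : K) * t20, (χ 21 : K) * t21, (χ 17 : K) * t17,
      (χ 22 : K) * t22, (χ 23 : K) * t23])
    (ts' := [t18, t13, t12, t19, t16, t15, t20, t21, t17, t22, t23]) rfl rfl (by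
      simpa only [LP, List.zip_cons_cons, List.zip_nil_left, List.map_cons, List.map_nil] using hyfix)
  simp only [List.cons.injEq, and_true] at huniq
  have hchi : ∀ r ∈ [18, 13, 12, 19, 16, 15, 20, 21, 17], χ r ≠ 1 := by
    intro r hr e
    obtain ⟨k, -, hk⟩ := htab r hr
    have hN' : (a * C.fu a * C.fu (C.fu a)) ^ k = 1 := by
      rw [show a * C.fu a * C.fu (C.fu a) = nrm C a from rfl, hN, one_zpow]
    have e' : a ^ (chevD4.cartan 0 r + k) * C.fu a ^ (chevD4.cartan 2 r + k) *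
        C.fu (C.fu a) ^ (chevD4.cartan 3 r + k) = 1 := by
      have e1 : a ^ chevD4.cartan 0 r * C.fu a ^ chevD4.cartan 2 r *
          C.fu (C.fu a) ^ chevD4.cartan 3 r = 1 := (tor_char C a r).symm.trans e
      calc a ^ (chevD4.cartan 0 r + k) * C.fu a ^ (chevD4.cartan 2 r + k) *
            C.fu (C.fu a) ^ (chevD4.cartan 3 r + k)
          = (a ^ chevD4.cartan 0 r * C.fu a ^ chevD4.cartan 2 r *
              C.fu (C.fu a) ^ chevD4.cartan 3 r) * (a * C.fu a * C.fu (C.fu a)) ^ k := by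
            rw [zpow_add, zpow_add, zpow_add, mul_zpow, mul_zpow]
            simp [mul_assoc, mul_comm, mul_left_comm]
        _ = 1 := by rw [e1, hN', one_mul]
    have hinj : Function.Injective (C.fu : Kˣ → Kˣ) := fun x y h => by
      have := congrArg C.fu (congrArg C.fu h)
      rwa [C.fu_three, C.fu_three] at this
    simp only [List.mem_cons, Prod.mk.injEq, List.not_mem_nil, or_false] at hk
    have hsq : a * a = 1 := by
      rcases hk with ⟨k0, k2, k3⟩ | ⟨k0, k2, k3⟩ | ⟨k0, k2, k3⟩ | ⟨k0, k2, k3⟩ | ⟨k0, k2, k3⟩ |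
        ⟨k0, k2, k3⟩ <;>
        simp only [k0, k2, k3, zpow_zero, one_mul, mul_one, zpow_two, zpow_neg, inv_eq_one] at e'
      · exact e'
      · exact e'
      · exact hinj (by rw [map_mul, map_one]; exact e')
      · exact hinj (by rw [map_mul, map_one]; exact e')
      · exact hinj (hinj (by rw [map_mul, map_mul, map_one, map_one]; exact e'))
      · exact hinj (hinj (by rw [map_mul, map_mul, map_one, map_one]; exact e'))
    exact hz hsq
  have kill : ∀ (r : ℕ) (t : K), r ∈ [18, 13, 12, 19, 16, 15, 20, 21, 17] → (χ r : K) * t = t →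
      t = 0 := fun r t hr h => by
    by_contra h0
    exact hchi r hr (Units.ext ((mul_eq_right₀ h0).1 h))
  obtain ⟨h1, h2, h3, h4, h5, h6, h7, h8, h9, -, -⟩ := huniq
  rw [kill 18 t18 (by simp) h1, kill 13 t13 (by simp) h2, kill 12 t12 (by simp) h3,
    kill 19 t19 (by simp) h4, kill 16 t16 (by simp) h5, kill 15 t15 (by simp) h6,
    kill 20 t20 (by simp) h7, kill 21 t21 (by simp) h8, kill 17 t17 (by simp) h9] at hwG hfix ⊢
  have hw' : wU chevD4 (LP.zip [(0 : K), 0, 0, 0, 0, 0, 0, 0, 0, t22, t23]) = Ed t23 t22 := by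
    simp only [LP, List.zip_cons_cons, List.zip_nil_left, wU, List.map_cons, List.map_nil,
      List.prod_cons, List.prod_nil, mul_one]
    simp only [facts.xU_zero (lt24 (by norm_num : 18 < 24)), facts.xU_zero (lt24 (by norm_num : 13 < 24)),
      facts.xU_zero (lt24 (by norm_num : 12 < 24)), facts.xU_zero (lt24 (by norm_num : 19 < 24)),
      facts.xU_zero (lt24 (by norm_num : 16 < 24)), facts.xU_zero (lt24 (by norm_num : 15 < 24)),
      facts.xU_zero (lt24 (by norm_num : 20 < 24)), facts.xU_zero (lt24 (by norm_num : 21 < 24)),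
      facts.xU_zero (lt24 (by norm_num : 17 < 24)), one_mul]
    exact (Ed_swap C t23 t22).eq
  rw [hw'] at hwG hfix ⊢
  -- rationality of the coordinates
  obtain ⟨-, -, -, -, r23, e23, r22, e22, -⟩ := fixed_data C
  have himg := (C.img_one (r := 23) (by norm_num) e23 t23).mul (C.img_one (r := 22) (by norm_num) e22 t22)
  rw [r23, r22] at himg
  have heq : Ed (C.f t23) (C.f t22) = Ed t23 t22 := himg.unique (C.sys.le_fix hwG)
  have inj : ∀ {b a b' a' : K}, Ed b a = Ed b' a' → b = b' ∧ a = a' := by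
    intro b a b' a' h
    rw [Ed, Ed, ← (Ed_swap C b a).eq, ← (Ed_swap C b' a').eq] at h
    have := facts.coords_unique C.sig.hC hco2 (ts := [a, b]) (ts' := [a', b']) rfl rfl
      (by simpa [wU] using h)
    simp only [List.cons.injEq, and_true] at this
    exact ⟨this.2, this.1⟩
  obtain ⟨g23, g22⟩ := inj heq
  rw [Lh_doublet] at hfix
  obtain ⟨q1, q2⟩ := inj hfix
  set g00 : K := ((p.1.2 0 0 : Fq C) : K)
  set g01 : K := ((p.1.2 0 1 : Fq C) : K)
  set g10 : K := ((p.1.2 1 0 : Fq C) : K)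
  set g11 : K := ((p.1.2 1 1 : Fq C) : K)
  have hdet : (g00 - 1) * (g11 - 1) - g01 * g10 ≠ 0 := by
    intro e
    refine hev (Subtype.ext ?_)
    simp only [trc, dtm, Subfield.coe_add, Subfield.coe_sub, Subfield.coe_mul, OneMemClass.coe_one,
      ZeroMemClass.coe_zero]
    linear_combination e
  have b0 : t23 = 0 := by
    refine (mul_eq_zero.1 (show ((g00 - 1) * (g11 - 1) - g01 * g10) * t23 = 0 from ?_)).resolve_left hdet
    linear_combination (g11 - 1) * q1 - g01 * q2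
  have a0 : t22 = 0 := by
    refine (mul_eq_zero.1 (show ((g00 - 1) * (g11 - 1) - g01 * g10) * t22 = 0 from ?_)).resolve_left hdet
    linear_combination (g00 - 1) * q2 - g10 * q1
  rw [Ed, a0, b0, facts.xU_zero (lt24 (by norm_num)), facts.xU_zero (lt24 (by norm_num)), one_mul]

theorem pair_perm (s u : Kˣ) : nB C (s : K) * nU chevD4 23 (u : K) ∈ chevD4.monomialSubgroup K ∧
    PermAct (nB C (s : K) * nU chevD4 23 (u : K)) (sW chevD4 Wp) := by
  obtain ⟨m1, p1⟩ := nB_perm C s.ne_zero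
  obtain ⟨m2, p2⟩ := n23_perm C u.ne_zero
  rw [show Wp = Wa ++ W23 from rfl, sW_append]
  exact ⟨mul_mem m1 m2, facts.permAct_mul p1 p2⟩

/-- The action of the representative of `-1` on the Levi subgroup. -/
theorem pair_conj (s u : Kˣ) (hu : (u : K) ^ q = u) : ∃ k k' : Fq C, k' * k = 1 ∧
    (∀ c : K, (nB C (s : K) * nU chevD4 23 (u : K))⁻¹ * xU chevD4 14 c *
      (nB C (s : K) * nU chevD4 23 (u : K)) = xU chevD4 9 ((k : K) * c)) ∧
    (∀ c : K, (nB C (s : K) * nU chevD4 23 (u : K))⁻¹ * xU chevD4 9 c *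
      (nB C (s : K) * nU chevD4 23 (u : K)) = xU chevD4 14 ((k' : K) * c)) := by
  obtain ⟨w14, w9, -, -, hpar⟩ := pair_data
  obtain ⟨-, -, r9, e9, -, -, -, -, r14, e14⟩ := fixed_data C
  set N := nB C (s : K) * nU chevD4 23 (u : K) with hN
  obtain ⟨hm, hP⟩ := pair_perm C s u
  obtain ⟨k, -, hk⟩ := conj_inv_xU hm hP (s := 14) (by norm_num)
  obtain ⟨k', -, hk'⟩ := conj_inv_xU hm hP (s := 9) (by norm_num)
  rw [w14] at hk
  rw [w9] at hk'
  have hNG : N ∈ twistedD4 K q := mul_mem (nB_mem C _) (n23_mem C hu)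
  have hkF : k ^ q = k := fixed_coord C (r := 9) (by norm_num) r9 e9 (C.sys.le_fix (by
    have h1 : xU chevD4 14 (1 : K) ∈ twistedD4 K q :=
      xU_pos_mem C (by norm_num) (by norm_num) r14 e14 (one_pow q)
    have := mul_mem (mul_mem (inv_mem hNG) h1) hNG
    rwa [hk, mul_one] at this))
  have hk'F : k' ^ q = k' := fixed_coord C (r := 14) (by norm_num) r14 e14 (C.sys.le_fix (by
    have h1 : xU chevD4 9 (1 : K) ∈ twistedD4 K q := by
      have := Lh_mem C (p1 C (low (1 : Fq C)) (G2Square.dtm_low _))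
      rwa [Lh_low] at this
    have := mul_mem (mul_mem (inv_mem hNG) h1) hNG
    rwa [hk', mul_one] at this))
  have hcomm := fun x y : K => orbit_nU_comm C x y
  obtain ⟨h18, h13, h12, h23⟩ : 18 < chevD4.nroots ∧ 13 < chevD4.nroots ∧ 12 < chevD4.nroots ∧
      23 < chevD4.nroots := ⟨lt24 (by norm_num), lt24 (by norm_num), lt24 (by norm_num), lt24 (by norm_num)⟩
  have hBB : nB C (s : K) * nB C (s : K) = dU chevD4 (fun r =>
      prChar chevD4 18 (-1 : Kˣ) r * (prChar chevD4 13 (-1) r * prChar chevD4 12 (-1) r)) := by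
    rw [nB_eq, ((hcomm (s : K) (C.f (s : K))).1.symm.mul_left
        (hcomm (s : K) (C.f (C.f (s : K)))).2.1.symm).mul_mul_mul_comm,
      ((hcomm (C.f (s : K)) (C.f (C.f (s : K)))).2.2.symm).mul_mul_mul_comm,
      nU_self_mul h18 s, show C.f (C.f (s : K)) = ((C.fu (C.fu s) : Kˣ) : K) from rfl,
      show C.f (s : K) = ((C.fu s : Kˣ) : K) from rfl, nU_self_mul h13 (C.fu s),
      nU_self_mul h12 (C.fu (C.fu s)), dU_mul, dU_mul]
  have hNN : N * N = dU chevD4 (fun r =>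
      prChar chevD4 18 (-1 : Kˣ) r * (prChar chevD4 13 (-1) r * prChar chevD4 12 (-1) r) *
        prChar chevD4 23 (-1) r) := by
    rw [hN, (nB_n23 C (s : K) (u : K)).symm.mul_mul_mul_comm, hBB, nU_self_mul h23 u, dU_mul]
  have h14 : N * N * xU chevD4 14 1 * (N * N)⁻¹ = xU chevD4 14 1 := by
    have hw : IsWeight chevD4 (fun r => Additive.ofMul (prChar chevD4 18 (-1 : Kˣ) r *
        (prChar chevD4 13 (-1) r * prChar chevD4 12 (-1) r) * prChar chevD4 23 (-1) r)) := by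
      have a := facts.isWeight_prChar (F := K) h18 (-1)
      have b := facts.isWeight_prChar (F := K) h13 (-1)
      have c := facts.isWeight_prChar (F := K) h12 (-1)
      have d := facts.isWeight_prChar (F := K) h23 (-1)
      refine ⟨fun r hr => ?_, fun r hr x hx y h => ?_⟩
      · simp only [ofMul_mul]
        rw [a.neg r hr, b.neg r hr, c.neg r hr, d.neg r hr]
        abel
      · simp only [ofMul_mul]
        rw [a.add r hr x hx y h, b.add r hr x hx y h, c.add r hr x hx y h, d.add r hr x hx y h]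
        abel
    rw [hNN, facts.dU_conj hw (lt24 (by norm_num)), mul_inv_cancel_right, mul_one]
    simp only [prChar]
    rw [← zpow_add, ← zpow_add, ← zpow_add, ← add_assoc, hpar]
    simp
  have h2 : N⁻¹ * (N⁻¹ * xU chevD4 14 1 * N) * N = xU chevD4 14 1 := by
    conv_lhs => rw [← h14]
    group
  rw [hk, hk', mul_one] at h2
  refine ⟨⟨k, (mem_Fq C).2 hkF⟩, ⟨k', (mem_Fq C).2 hk'F⟩, Subtype.ext ?_, hk, hk'⟩
  exact facts.xU_left_inj (lt24 (by norm_num)) h2

omit [Fintype K] C in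
theorem inv_conj_diag {m : GL chevD4.Idx K} {σ : Equiv.Perm (Fin chevD4.nroots)}
    (hm : m ∈ chevD4.monomialSubgroup K) (hσ : PermAct m σ)
    (hneg : ∀ r : Fin chevD4.nroots, (σ r).val = chevD4.neg r.val) (c : ℕ → Kˣ) :
    m * hT chevD4 c * m⁻¹ = (hT chevD4 c)⁻¹ := by
  obtain ⟨c', hc'⟩ := facts.mem_diagonal_iff.1
    (facts.conj_diagonal hm (facts.mem_diagonal_iff.2 ⟨c, rfl⟩))
  rw [hc', hT, hT, dU_inv]
  refine dU_congr fun r hr => ?_
  set r' : Fin chevD4.nroots := ⟨chevD4.neg r, facts.neg_lt hr⟩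
  obtain ⟨k, hk, h1, -⟩ := hσ r'
  have hv : (σ r').val = r := by rw [hneg]; exact facts.neg_neg hr
  have e : m * (hT chevD4 c * xU chevD4 r'.val 1 * (hT chevD4 c)⁻¹) * m⁻¹ =
      (m * hT chevD4 c * m⁻¹) * (m * xU chevD4 r'.val 1 * m⁻¹) * (m * hT chevD4 c * m⁻¹)⁻¹ := by
    group
  rw [facts.hT_conj_xU c r'.isLt, h1, h1, hc', facts.hT_conj_xU c' (σ r').isLt] at e
  have e2 := facts.xU_left_inj (σ r').isLt e
  rw [hv] at e2
  have e3 : (∏ i ∈ Finset.range chevD4.rank, c i ^ chevD4.cartan i r'.val) =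
      ∏ i ∈ Finset.range chevD4.rank, c' i ^ chevD4.cartan i r := by
    refine Units.ext (mul_left_cancel₀ hk ?_)
    rw [mul_one, mul_one] at e2
    linear_combination e2
  rw [← e3]
  exact Additive.ofMul.injective (((facts.isWeight_hT c).neg r hr).trans (ofMul_inv _).symm)

/-- The semisimple element and its properties. -/
structure XData where
  /-- The pair. -/
  p0 : pairGrp C
  /-- The matrix data. -/
  S : SD (Fq C)
  hs : p0.1.2 = S.s
  fixP : ∀ w ∈ Qp C, Lh C p0 * w * (Lh C p0)⁻¹ = w → w = 1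
  fixM : ∀ w ∈ Qm C, Lh C p0 * w * (Lh C p0)⁻¹ = w → w = 1
  /-- The element conjugating to the inverse. -/
  nr : GL chevD4.Idx K
  nr_mem : nr ∈ twistedD4 K q
  real : nr * Lh C p0 * nr⁻¹ = (Lh C p0)⁻¹
  order : Lh C p0 ^ ((q ^ 2 - 1) * (q ^ 2 + q + 1)) = 1

theorem exists_xdata : Nonempty (XData C) := by
  classical
  obtain ⟨S⟩ := exists_sd (F := Fq C)
  have hcard : Nat.card (Fq C) = q := by
    haveI := Fintype.ofFinite (Fq C)
    rw [Nat.card_eq_fintype_card, TwD4.Torus.card_Fq C]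
  have hsM : S.s ^ (q ^ 2 - 1) = 1 := by
    have := S.order
    rwa [hcard] at this
  obtain ⟨z0, hz0⟩ := TwD4.Mult.exists_norm C S.d (fun e => S.hd (Subtype.ext e))
  obtain ⟨μ, hμN, hμo, hcop⟩ := TwD4.Mult.exists_norm_one C
  have hq := C.q_gt
  obtain ⟨z, hzN, hz⟩ : ∃ z : Kˣ, ((nrm C z : Kˣ) : K) = (S.d : K) ∧
      z ^ (q ^ 2 - 1) * z ^ (q ^ 2 - 1) ≠ 1 := by
    by_cases h : z0 ^ (q ^ 2 - 1) * z0 ^ (q ^ 2 - 1) = 1
    · refine ⟨z0 * μ, by rw [map_mul, hμN, mul_one, hz0], fun e => ?_⟩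
      rw [mul_pow, mul_mul_mul_comm, h, one_mul, ← pow_add, ← two_mul] at e
      have hd := hμo ▸ orderOf_dvd_of_pow_eq_one e
      have hd' : q ^ 2 + q + 1 ∣ q ^ 2 - 1 := hcop.dvd_of_dvd_mul_left hd
      have h1 : 2 * 2 ≤ q ^ 2 := by rw [pow_two]; exact Nat.mul_le_mul hq hq
      have h2 := Nat.le_of_dvd (by omega) hd'
      omega
    · exact ⟨z0, hz0, h⟩
  have hdS : dtm S.s = S.d := by simp [dtm, SD.s]
  let p0 : pairGrp C := pr C z S.s (by rw [hdS]; exact hzN)
  have hzMM : (p0.1.1 ^ (q ^ 2 - 1)) * (p0.1.1 ^ (q ^ 2 - 1)) ≠ 1 := hz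
  have hev : 1 - trc p0.1.2 + dtm p0.1.2 ≠ 0 := by
    show 1 - trc S.s + dtm S.s ≠ 0
    rw [hdS, show trc S.s = S.tau by simp [trc, SD.s]]
    exact S.hev
  have fixP := fun (w : GL chevD4.Idx K) (hw : w ∈ Qp C) h =>
    fix_eq_one C (p := p0) (M := q ^ 2 - 1) hsM hzMM hev hw h
  -- the element conjugating to the inverse
  obtain ⟨k, k', hkk, hk, hk'⟩ := pair_conj C 1 1 (by simp)
  obtain ⟨hm, hP⟩ := pair_perm C 1 1
  set N : GL chevD4.Idx K := nB C ((1 : Kˣ) : K) * nU chevD4 23 ((1 : Kˣ) : K) with hN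
  have hNG : N ∈ twistedD4 K q := mul_mem (nB_mem C _) (n23_mem C (by simp))
  have hkne : (k : K) ≠ 0 := fun e => by
    have := congrArg (fun x : Fq C => (x : K)) hkk
    simp [e] at this
  have hk'e : (k' : K) = (k : K)⁻¹ := by
    refine eq_inv_of_mul_eq_one_left ?_
    have := congrArg (fun x : Fq C => (x : K)) hkk
    simpa using this
  obtain ⟨-, -, hnegs, hMP, -⟩ := pair_data
  have hPi : PermAct N⁻¹ (sW chevD4 Wp.reverse) := by
    rw [facts.sW_reverse]; exact facts.permAct_inv hm hP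
  have htor : ∀ a : Kˣ, N⁻¹ * tor C a * N = tor C a⁻¹ := fun a => by
    have h := inv_conj_diag (m := N⁻¹) (inv_mem hm) hPi
      (fun r => by rw [sW_val]; exact hnegs ⟨r.val, to24 r.isLt⟩) (C.vec a 1)
    rw [inv_inv] at h
    rw [tor, h, tor, ← facts.hT_inv]
    refine facts.hT_congr fun i hi => ?_
    have hi4 : i < 4 := tables.2.1 ▸ hi
    interval_cases i <;> simp [Ctx.vec]
  -- the transported matrix
  let th : Matrix.SpecialLinearGroup (Fin 2) K → Matrix.SpecialLinearGroup (Fin 2) K := fun X =>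
    ⟨!![X 1 1, X 1 0 * (k : K)⁻¹; (k : K) * X 0 1, X 0 0], by
      rw [Matrix.det_fin_two_of]
      have := sl2_det X
      field_simp
      linear_combination this⟩
  have hphi : ∀ X, N⁻¹ * phi K X * N = phi K (th X) := by
    let T : Submonoid (Matrix.SpecialLinearGroup (Fin 2) K) :=
      { carrier := {X | N⁻¹ * phi K X * N = phi K (th X)}
        one_mem' := by
          show N⁻¹ * phi K 1 * N = phi K (th 1)
          rw [map_one, mul_one, inv_mul_cancel, show th 1 = 1 from Subtype.ext (by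
            simp [th, Matrix.one_fin_two]), map_one]
        mul_mem' := fun {X Y} hX hY => by
          show N⁻¹ * phi K (X * Y) * N = phi K (th (X * Y))
          rw [map_mul, show N⁻¹ * (phi K X * phi K Y) * N =
            (N⁻¹ * phi K X * N) * (N⁻¹ * phi K Y * N) by group, hX, hY, ← map_mul]
          congr 1
          refine Subtype.ext ?_
          show (!![_, _; _, _] : Matrix (Fin 2) (Fin 2) K) * !![_, _; _, _] = !![_, _; _, _]
          simp only [Matrix.SpecialLinearGroup.coe_mul]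
          ext i j
          fin_cases i <;> fin_cases j <;>
            simp [Matrix.mul_apply, Fin.sum_univ_two] <;> field_simp <;> ring }
    have hp : ∀ t : K, upM t ∈ T := fun t => by
      show N⁻¹ * phi K (upM t) * N = phi K (th (upM t))
      rw [show th (upM t) = loM ((k : K) * t) from Subtype.ext (by simp [th, upM, loM]),
        phi_spec.1, phi_spec.2]
      exact hk t
    have hl : ∀ t : K, loM t ∈ T := fun t => by
      show N⁻¹ * phi K (loM t) * N = phi K (th (loM t))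
      rw [show th (loM t) = upM ((k' : K) * t) from Subtype.ext (by
          simp [th, upM, loM, hk'e, mul_comm]),
        phi_spec.1, phi_spec.2]
      exact hk' t
    have hle : Submonoid.closure ({wM} ∪ Set.range (upM : K → Matrix.SpecialLinearGroup (Fin 2) K)) ≤ T := by
      refine Submonoid.closure_le.2 ?_
      rintro x (rfl | ⟨t, rfl⟩)
      · rw [TwD4.Torus.wM_eq]
        exact T.mul_mem (T.mul_mem (hp _) (hl _)) (hp _)
      · exact hp t
    exact fun X => hle (sl2_gen (facts.rankOne (F := K) TwD4.Torus.p2_lt) X)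
  have hD : dtm S.s ≠ 0 := G2Square.dtm_ne _
  let g' : GL (Fin 2) (Fq C) := gl2 (S.s 1 1 / dtm S.s) (S.s 1 0 * k' / dtm S.s)
    (k * S.s 0 1 / dtm S.s) (S.s 0 0 / dtm S.s) (by
      intro e
      refine hD ?_
      field_simp at e
      rw [dtm]
      linear_combination e + S.s 1 0 * S.s 0 1 * hkk)
  have hg't : trc g' = S.tau / S.d := by
    simp [g', trc, dtm, SD.s]
  have hg'd : dtm g' = 1 / S.d := by
    have hd0 := S.hd
    simp [g', dtm, SD.s]
    field_simp
    linear_combination hkk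
  obtain ⟨R, hR⟩ := S.conj_inv hg't hg'd
  obtain ⟨w, hw⟩ := exists_pair C R
  let p' : pairGrp C := pr C z⁻¹ g' (by
    rw [map_inv, Units.val_inv_eq_inv_val, hzN, hg'd]
    simp)
  have hp' : N⁻¹ * Lh C p0 * N = Lh C p' := by
    rw [Lh_apply, Lh_apply, show N⁻¹ * (tor C p0.1.1 * phi K (sPart C p0)) * N =
      (N⁻¹ * tor C p0.1.1 * N) * (N⁻¹ * phi K (sPart C p0) * N) by group, htor, hphi]
    congr 2
    refine Subtype.ext ?_
    have hz' : ((nrm C z : Kˣ) : K) = (S.d : K) := hzN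
    have hdK : (S.d : K) ≠ 0 := fun e => S.hd (Subtype.ext e)
    ext i j
    fin_cases i <;> fin_cases j <;>
      simp [th, sPart, p0, p', pr, g', dtm, hz', hk'e, SD.s, Units.val_inv_eq_inv_val,
        mul_comm, mul_assoc, mul_left_comm, div_eq_mul_inv, hdK]
  have hreal : (Lh C w)⁻¹ * N⁻¹ * Lh C p0 * ((Lh C w)⁻¹ * N⁻¹)⁻¹ = (Lh C p0)⁻¹ := by
    rw [show (Lh C w)⁻¹ * N⁻¹ * Lh C p0 * ((Lh C w)⁻¹ * N⁻¹)⁻¹ =
      (Lh C w)⁻¹ * (N⁻¹ * Lh C p0 * N) * Lh C w by group, hp', ← map_inv, ← map_mul, ← map_mul,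
      ← map_inv]
    congr 1
    refine Subtype.ext (Prod.ext ?_ ?_)
    · show w.1.1⁻¹ * z⁻¹ * w.1.1 = z⁻¹
      rw [mul_comm w.1.1⁻¹, inv_mul_cancel_right]
    · show w.1.2⁻¹ * g' * w.1.2 = S.s⁻¹
      rw [hR, hw]; group
  refine ⟨⟨p0, S, rfl, fixP, ?_, (Lh C w)⁻¹ * N⁻¹,
    mul_mem (inv_mem (Lh_mem C w)) (inv_mem hNG), hreal, ?_⟩⟩
  · intro v hv hfix
    set nr := (Lh C w)⁻¹ * N⁻¹ with hnr
    have h1 : nr * v * nr⁻¹ ∈ Qp C := by
      obtain ⟨hvM, hvG⟩ := Subgroup.mem_inf.1 hv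
      have h2 : N⁻¹ * v * N⁻¹⁻¹ ∈ rootClosure chevD4 K InP :=
        facts.conj_rootClosure hPi (fun s hs => by rw [sW_val]; exact hMP ⟨s.val, to24 s.isLt⟩ hs) hvM
      have h3 : N⁻¹ * v * N⁻¹⁻¹ ∈ Qp C :=
        Subgroup.mem_inf.2 ⟨h2, mul_mem (mul_mem (inv_mem hNG) hvG) (inv_mem (inv_mem hNG))⟩
      have := conj_Qp' C w h3
      rw [hnr]
      simpa [mul_assoc] using this
    have h2 : (Lh C p0)⁻¹ * (nr * v * nr⁻¹) * (Lh C p0)⁻¹⁻¹ = nr * v * nr⁻¹ := by
      rw [← hreal]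
      calc nr * Lh C p0 * nr⁻¹ * (nr * v * nr⁻¹) * (nr * Lh C p0 * nr⁻¹)⁻¹
          = nr * (Lh C p0 * v * (Lh C p0)⁻¹) * nr⁻¹ := by group
        _ = _ := by rw [hfix]
    have h3 := fixP _ h1 (by
      conv_lhs => rw [← h2]
      group)
    calc v = nr⁻¹ * (nr * v * nr⁻¹) * nr := by group
      _ = 1 := by rw [h3]; group
  · rw [← map_pow, ← map_one (Lh C)]
    congr 1
    refine Subtype.ext ?_
    rw [SubmonoidClass.coe_pow]
    refine Prod.ext ?_ ?_
    · show z ^ _ = 1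
      have hc : z ^ (q ^ 3 - 1) = 1 := by
        have := pow_card_eq_one' (x := z)
        rwa [Nat.card_units, Nat.card_eq_fintype_card, C.card] at this
      have e : (q ^ 2 - 1) * (q ^ 2 + q + 1) = (q + 1) * (q ^ 3 - 1) := by
        rw [TwD4.Mult.cube_sub_one C]
        obtain ⟨j, rfl⟩ : ∃ j, q = j + 1 := ⟨q - 1, by omega⟩
        have : (j + 1) ^ 2 = (j + 2) * j + 1 := by ring
        rw [Nat.add_sub_cancel, show (j + 1) ^ 2 - 1 = (j + 2) * j by omega]
        ring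
      rw [e, pow_mul', hc, one_pow]
    · show S.s ^ _ = 1
      rw [pow_mul, hsM, one_pow]

end CfsgLib.Known.D4Square
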