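import Cfsg.Agent.Lib.Known.D4Square.Cover

/-!
Diagonal elements, the endgames, and decompositions of monomial elements in `³D₄`.
-/

set_option autoImplicit false
set_option maxRecDepth 20000
set_option maxHeartbeats 1000000

namespace CfsgLib.Known.D4Square

open Cfsg.Lie CfsgLib.Chev CfsgLib.Chev.TwD4
open CfsgLib.Chev.TwD4.Torus (Fq mem_Fq nrm pairGrp mem_pairGrp sPart tor phi_diag)
open CfsgLib.Chev.TwD4.Mult (RQ LQ eB eB_mem eB_add)
open CfsgLib.Known.G2Square (gl2 up low gl_ext dtm dtm_ne dtm_mul up_inv low_inv dtm_up dtm_low)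

universe v

theorem word_data :
    (∀ j ∈ [[], Wb], ∀ s : Fin chevD4.nroots,
      pv (Wa ++ (W23 ++ j) ++ Wa.reverse ++ Wa) s.val = pv (Wp ++ j) s.val) ∧
    (∀ j ∈ [[], Wb], ∀ r ∈ [18, 13, 12], InP (pv (Wa ++ (W23 ++ j) ++ Wa.reverse) r)) ∧
    (∀ r ∈ [18, 13, 12], pv (W23 ++ Wb).reverse r ∈ LQ) ∧
    (∀ r ∈ LQ, 12 ≤ r) ∧ InP (pv Wa.reverse 14) ∧ InP (pv W23.reverse 9) := by
  decide +kernel

theorem fall_data :
    (∀ s : Fin chevD4.nroots,
      pv (Wa ++ Wb ++ Wa ++ (Wa ++ Wb).reverse) s.val = pv (Wp ++ Wb) s.val) ∧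
    (∀ r ∈ [18, 13, 12], InP (pv (Wa ++ Wb) r)) ∧ (∀ r ∈ [5, 10, 11], InM (pv (Wa ++ Wb) r)) ∧
    chevD4.cartan 1 (pv (Wa ++ Wb) 18) = 0 ∧
    chevD4.cartan 0 18 = 2 ∧ chevD4.cartan 1 18 = -1 ∧ chevD4.cartan 2 18 = 0 ∧
    chevD4.cartan 3 18 = 0 ∧ chevD4.cartan 0 13 = 0 ∧ chevD4.cartan 1 13 = -1 ∧
    chevD4.cartan 2 13 = 2 ∧ chevD4.cartan 3 13 = 0 ∧ chevD4.cartan 0 12 = 0 ∧
    chevD4.cartan 1 12 = -1 ∧ chevD4.cartan 2 12 = 0 ∧ chevD4.cartan 3 12 = 2 ∧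
    cor chevD4 23 0 = 1 ∧ cor chevD4 23 1 = 2 ∧ cor chevD4 23 2 = 1 ∧ cor chevD4 23 3 = 1 ∧
    chevD4.cartan 0 0 = 0 ∧ chevD4.cartan 2 0 = 0 ∧ chevD4.cartan 3 0 = 0 ∧
    chevD4.cartan 0 23 = 0 ∧ chevD4.cartan 2 23 = 0 ∧ chevD4.cartan 3 23 = 0 := by
  decide +kernel

theorem pv_lt (l : List (Fin chevD4.rank)) {r : ℕ} (hr : r < 24) : pv l r < chevD4.nroots := by
  rw [← sW_val l ⟨r, lt24 hr⟩]
  exact Fin.isLt _

variable {K : Type v} [Field K] [Fintype K] {q : ℕ} (C : Ctx K q)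
include C

theorem tor_mul (s t : Kˣ) : tor C (s * t) = tor C s * tor C t := by
  rw [tor, tor, tor, ← facts.hT_mul]
  refine facts.hT_congr fun i hi => ?_
  have hi4 : i < 4 := tables.2.1 ▸ hi
  interval_cases i <;> simp [Ctx.vec]

/-- The Levi element of a diagonal pair. -/
theorem diag_Lh {p : pairGrp C} (h01 : p.1.2 0 1 = 0) (h10 : p.1.2 1 0 = 0) :
    ∃ b : Kˣ, b ^ (q - 1) = 1 ∧ (b : K) = ((p.1.2 0 0 : Fq C) : K) ∧
      Lh C p = hT chevD4 (C.vec p.1.1 b) := by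
  have h00 : ((p.1.2 0 0 : Fq C) : K) ≠ 0 := by
    intro e
    refine dtm_ne p.1.2 ?_
    rw [dtm, Subtype.ext (e.trans (ZeroMemClass.coe_zero (Fq C)).symm) (a2 := (0 : Fq C)), h01]
    ring
  have hq := C.q_gt
  have hbq : ((p.1.2 0 0 : Fq C) : K) ^ q = (p.1.2 0 0 : Fq C) := (mem_Fq C).1 (p.1.2 0 0).2
  refine ⟨Units.mk0 _ h00, ?_, rfl, ?_⟩
  · refine Units.ext (mul_right_cancel₀ h00 ?_)
    rw [Units.val_pow_eq_pow_val, Units.val_mk0, ← pow_succ, Units.val_one, one_mul,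
      show q - 1 + 1 = q by omega]
    exact hbq
  · have hc := pr_cond C p
    rw [Lh_apply, phi_diag C (phi K) phi_spec (Units.mk0 _ h00) (sPart C p) ?_, tor,
      ← facts.hT_mul]
    · refine facts.hT_congr fun i hi => ?_
      have hi4 : i < 4 := tables.2.1 ▸ hi
      interval_cases i <;> simp [Ctx.vec]
    · have h11 : ((p.1.2 1 1 : Fq C) : K) ≠ 0 := by
        intro e
        refine (nrm C p.1.1).ne_zero ?_
        rw [hc, dtm, h01]
        simp [e]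
      ext i j
      fin_cases i <;> fin_cases j <;>
        simp [sPart, h01, h10, Units.val_inv_eq_inv_val, hc, dtm]
      field_simp

theorem conj_diag_eB (a : Kˣ) {b : Kˣ} (hb : b ^ (q - 1) = 1) (c : K) :
    hT chevD4 (C.vec a b) * eB C c * (hT chevD4 (C.vec a b))⁻¹ =
      eB C (((a * a * b⁻¹ : Kˣ) : K) * c) := by
  obtain ⟨-, -, -, -, a0, a1, a2, a3, b0, b1, b2, b3, c0, c1, c2, c3, -⟩ := fall_data
  have hq := C.q_gt
  have hfb : C.fu b = b := by
    rw [TwD4.Torus.fu_eq_pow, show q = q - 1 + 1 by omega, pow_succ, hb, one_mul]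
  have h4 : chevD4.rank = 4 := tables.2.1
  have ch : ∀ r, (∏ i ∈ Finset.range chevD4.rank, C.vec a b i ^ chevD4.cartan i r) =
      a ^ chevD4.cartan 0 r * b ^ chevD4.cartan 1 r * C.fu a ^ chevD4.cartan 2 r *
        C.fu (C.fu a) ^ chevD4.cartan 3 r := fun r => by
    rw [h4]
    simp only [Finset.prod_range_succ, Finset.prod_range_zero, one_mul]
    rfl
  have k18 : ∀ u : K, hT chevD4 (C.vec a b) * xU chevD4 18 u * (hT chevD4 (C.vec a b))⁻¹ =
      xU chevD4 18 (((a * a * b⁻¹ : Kˣ) : K) * u) := fun u => by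
    rw [facts.hT_conj_xU _ (lt24 (by norm_num)), ch, a0, a1, a2, a3]
    simp [zpow_two, pow_two]
  have k13 : ∀ u : K, hT chevD4 (C.vec a b) * xU chevD4 13 u * (hT chevD4 (C.vec a b))⁻¹ =
      xU chevD4 13 (((C.fu (a * a * b⁻¹) : Kˣ) : K) * u) := fun u => by
    rw [facts.hT_conj_xU _ (lt24 (by norm_num)), ch, b0, b1, b2, b3, map_mul, map_mul, map_inv, hfb]
    simp [zpow_two, pow_two, mul_comm]
  have k12 : ∀ u : K, hT chevD4 (C.vec a b) * xU chevD4 12 u * (hT chevD4 (C.vec a b))⁻¹ =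
      xU chevD4 12 (((C.fu (C.fu (a * a * b⁻¹)) : Kˣ) : K) * u) := fun u => by
    rw [facts.hT_conj_xU _ (lt24 (by norm_num)), ch, c0, c1, c2, c3, map_mul, map_mul, map_inv, hfb,
      map_mul, map_mul, map_inv, hfb]
    simp [zpow_two, pow_two, mul_comm]
  rw [eB, eB, show ∀ X Y Z H : GL chevD4.Idx K, H * (X * (Y * Z)) * H⁻¹ =
    H * X * H⁻¹ * (H * Y * H⁻¹ * (H * Z * H⁻¹)) from fun X Y Z H => by group]
  rw [k18, k13, k12]
  generalize a * a * b⁻¹ = χ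
  rw [map_mul C.f, map_mul C.f]
  rfl

theorem eB_neg (c : K) : eB C (-c) = (eB C c)⁻¹ := by
  have h0 : eB C (0 : K) = 1 := by
    have := eB_add C (0 : K) 0
    rw [add_zero] at this
    exact mul_eq_left.1 this.symm
  refine eq_inv_of_mul_eq_one_left ?_
  rw [← eB_add, neg_add_cancel, h0]

theorem eB_root (c : K) :
    eB C c ∈ rootClosure chevD4 K (fun r => r ∈ [18, 13, 12]) := by
  rw [eB]
  exact mul_mem (xU_mem_rootClosure (lt24 (by norm_num)) (by simp) _)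
    (mul_mem (xU_mem_rootClosure (lt24 (by norm_num)) (by simp) _)
      (xU_mem_rootClosure (lt24 (by norm_num)) (by simp) _))

theorem eM_root (c : K) :
    eM C c ∈ rootClosure chevD4 K (fun r => r ∈ [5, 10, 11]) :=
  mul_mem (xU_mem_rootClosure (lt24 (by norm_num)) (by simp) _)
    (mul_mem (xU_mem_rootClosure (lt24 (by norm_num)) (by simp) _)
      (xU_mem_rootClosure (lt24 (by norm_num)) (by simp) _))

theorem RQ_le_pos : RQ K ≤ rootClosure chevD4 K (chevD4.nroots / 2 ≤ ·) :=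
  rootClosure_mono fun r _ h => by
    show chevD4.nroots / 2 ≤ r
    have := word_data.2.2.2.1 r h
    rw [simple_vals.2.2.2.2.2.1]
    omega

theorem Qp_le_pos : Qp C ≤ rootClosure chevD4 K (chevD4.nroots / 2 ≤ ·) :=
  inf_le_left.trans (rootClosure_mono fun r _ (h : InP r) => by
    show chevD4.nroots / 2 ≤ r
    have := h.1
    rw [simple_vals.2.2.2.2.2.1]
    omega)

/-- A root element moved into the radical. -/
theorem move_Qp {N : GL chevD4.Idx K} {W : List (Fin chevD4.rank)} (hN : N ∈ twistedD4 K q)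
    (hm : N ∈ chevD4.monomialSubgroup K) (hP : PermAct N (sW chevD4 W)) {s : ℕ}
    (hs : s = 14 ∨ s = 9) (h : InP (pv W.reverse s)) (c : Fq C) :
    N⁻¹ * xU chevD4 s (c : K) * N ∈ Qp C := by
  refine Subgroup.mem_inf.2 ⟨?_, mul_mem (mul_mem (inv_mem hN) ?_) hN⟩
  · obtain ⟨k, -, hk⟩ := conj_inv_xU hm hP (s := s) (by omega)
    rw [hk]
    exact xU_mem_rootClosure (pv_lt _ (by omega)) h _
  · rcases hs with rfl | rfl
    · rw [← Lh_up]; exact Lh_mem C _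
    · rw [← Lh_low]; exact Lh_mem C _

theorem tor_n23 (t : Kˣ) (u : K) : Commute (tor C t) (nU chevD4 23 u) := by
  obtain ⟨-, -, -, -, -, -, -, -, -, -, -, -, -, -, -, -, -, -, -, -, a0, a2, a3, b0, b2, b3⟩ :=
    fall_data
  have h : ∀ r, r < 24 → chevD4.cartan 0 r = 0 → chevD4.cartan 2 r = 0 → chevD4.cartan 3 r = 0 →
      ∀ c : K, Commute (tor C t) (xU chevD4 r c) := fun r hr e0 e2 e3 c => by
    show tor C t * xU chevD4 r c = xU chevD4 r c * tor C t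
    rw [← mul_inv_eq_iff_eq_mul, tor, facts.hT_conj_xU _ (lt24 hr), tor_char, e0, e2, e3]
    simp
  show Commute _ (xU chevD4 23 u * xU chevD4 (chevD4.neg 23) (-u⁻¹) * xU chevD4 23 u)
  rw [simple_vals.2.2.2.2.2.2.2.2.2.2.2.2.2.2.2.2.2.2.1]
  exact ((h 23 (by norm_num) b0 b2 b3 u).mul_right (h 0 (by norm_num) a0 a2 a3 _)).mul_right
    (h 23 (by norm_num) b0 b2 b3 u)

/-- The factors of a monomial element of the highest root. -/
theorem n23_factors {u : K} (hu : u ^ q = u) :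
    xU chevD4 23 u ∈ Qp C ∧ xU chevD4 0 (-u⁻¹) ∈ Qm C ∧
      nU chevD4 23 u = xU chevD4 23 u * xU chevD4 0 (-u⁻¹) * xU chevD4 23 u := by
  obtain ⟨-, -, -, -, r23, e23, -⟩ := fixed_data C
  refine ⟨Subgroup.mem_inf.2 ⟨xU_mem_rootClosure (lt24 (by norm_num)) (by unfold InP; omega) _,
      xU_pos_mem C (by norm_num) (by norm_num) r23 e23 hu⟩,
    Subgroup.mem_inf.2 ⟨xU_mem_rootClosure (lt24 (by norm_num)) (by unfold InM; omega) _,
      x0_mem C ?_⟩, ?_⟩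
  · rw [← C.hf, map_neg, map_inv₀, C.hf, hu]
  · show xU chevD4 23 u * xU chevD4 (chevD4.neg 23) (-u⁻¹) * xU chevD4 23 u = _
    rw [simple_vals.2.2.2.2.2.2.2.2.2.2.2.2.2.2.2.2.2.2.1]

/-- The factors of a monomial element of the pair. -/
theorem pair_factors (s : K) {u : K} (hu : u ^ q = u) :
    eB C s * xU chevD4 23 u ∈ Qp C ∧ eM C (-s⁻¹) * xU chevD4 0 (-u⁻¹) ∈ Qm C ∧
      nB C s * nU chevD4 23 u = eB C s * xU chevD4 23 u * (eM C (-s⁻¹) * xU chevD4 0 (-u⁻¹)) *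
        (eB C s * xU chevD4 23 u) := by
  obtain ⟨hp, hm, e⟩ := n23_factors C hu
  refine ⟨mul_mem (eB_Qp C s) hp, mul_mem (eM_Qm C _) hm, ?_⟩
  obtain ⟨a, -, c⟩ := eB_comm_x C s u
  obtain ⟨-, -, c⟩ := eB_comm_x C (-s⁻¹) u
  obtain ⟨-, b, -⟩ := eB_comm_x C s (-u⁻¹)
  have a' := a.eq
  have b' := b.eq
  have c' := c.eq
  rw [e, nB]
  generalize eB C s = A at *
  generalize eM C (-s⁻¹) = B at *
  generalize xU chevD4 23 u = D at *
  generalize xU chevD4 0 (-u⁻¹) = E at *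
  calc A * B * A * (D * E * D) = A * B * (A * D) * E * D := by group
    _ = A * B * D * (A * E) * D := by rw [a']; group
    _ = A * B * D * E * (A * D) := by rw [b']; group
    _ = A * (B * D) * E * (A * D) := by group
    _ = A * D * (B * E) * (A * D) := by rw [c']; group

/-- The Weyl element of the Levi subgroup. -/
noncomputable def wG : GL (Fin 2) (Fq C) := up 1 * low (-1) * up 1

theorem dtm_wG : dtm (wG C) = 1 := by rw [wG, dtm_mul, dtm_mul, dtm_up, dtm_low, one_mul, one_mul]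

theorem wG_perm : Lh C (p1 C (wG C) (dtm_wG C)) ∈ chevD4.monomialSubgroup K ∧
    PermAct (Lh C (p1 C (wG C) (dtm_wG C))) (sW chevD4 Wb) := by
  have e : Lh C (p1 C (wG C) (dtm_wG C)) = nU chevD4 14 (1 : K) := by
    rw [show p1 C (wG C) (dtm_wG C) =
      p1 C (up 1) (dtm_up _) * p1 C (low (-1)) (dtm_low _) * p1 C (up 1) (dtm_up _) by
        rw [p1_mul, p1_mul]; rfl, map_mul, map_mul, Lh_up, Lh_low]
    show _ = xU chevD4 14 1 * xU chevD4 (chevD4.neg 14) (-1⁻¹) * xU chevD4 14 1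
    rw [simple_vals.2.2.2.2.2.2.2.2.2.2.2.2.2.2.2.2.2.1]
    simp
  rw [e]
  exact nU_perm (w := []) (i := R1) rfl one_ne_zero

theorem levi_rep {j : List (Fin chevD4.rank)} (hj : j ∈ [[], Wb]) :
    ∃ p : pairGrp C, Lh C p ∈ chevD4.monomialSubgroup K ∧ PermAct (Lh C p) (sW chevD4 j) := by
  simp only [List.mem_cons, List.not_mem_nil, or_false] at hj
  rcases hj with rfl | rfl
  · refine ⟨1, by rw [map_one]; exact one_mem _, ?_⟩
    rw [map_one, sW_nil]
    exact facts.permAct_diagonal (one_mem _)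
  · exact ⟨_, wG_perm C⟩

/-- Splitting off the Levi part of a monomial element. -/
theorem levi_part {n NR : GL chevD4.Idx K} {R j : List (Fin chevD4.rank)} (hj : j ∈ [[], Wb])
    (hn : n ∈ twistedD4 K q) (hnm : n ∈ chevD4.monomialSubgroup K)
    (hnP : PermAct n (sW chevD4 (R ++ j))) (hR : NR ∈ twistedD4 K q)
    (hRm : NR ∈ chevD4.monomialSubgroup K) (hRP : PermAct NR (sW chevD4 R)) :
    ∃ p : pairGrp C, n = NR * Lh C p := by
  obtain ⟨pj, hjm, hjP⟩ := levi_rep C hj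
  have hd : (NR * Lh C pj)⁻¹ * n ∈ chevD4.diagonalSubgroup K := by
    refine facts.mem_diagonal_of_permAct (mul_mem (inv_mem (mul_mem hRm hjm)) hnm) ?_
    have := facts.permAct_mul (facts.permAct_inv (mul_mem hRm hjm) (facts.permAct_mul hRP hjP)) hnP
    rwa [sW_append, inv_mul_cancel] at this
  obtain ⟨a, b, p, -, -, hp, -⟩ :=
    diag_pair C hd (mul_mem (inv_mem (mul_mem hR (Lh_mem C pj))) hn)
  exact ⟨pj * p, by rw [map_mul, hp]; group⟩

variable (X : XData C)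

/-- Reducing a product to a covered cell. -/
theorem XData.finish {n NR r : GL chevD4.Idx K} {R j : List (Fin chevD4.rank)}
    (hcl : ∀ p, X.Cl C NR p) (hR : NR ∈ twistedD4 K q)
    (hRm : NR ∈ chevD4.monomialSubgroup K) (hRP : PermAct NR (sW chevD4 R)) (hj : j ∈ [[], Wb])
    (hn : n ∈ twistedD4 K q) (hnm : n ∈ chevD4.monomialSubgroup K)
    (hnP : PermAct n (sW chevD4 (R ++ j))) (hr : r ∈ P1 C) : Cov C (Lh C X.p0) (n * r) := by
  obtain ⟨p, rfl⟩ := levi_part C hj hn hnm hnP hR hRm hRP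
  obtain ⟨p', u, hu, rfl⟩ := (mem_P1 C).1 hr
  have := hcl (p * p') u hu
  rwa [map_mul, show NR * (Lh C p * Lh C p') * u = NR * Lh C p * (Lh C p' * u) by group] at this

end CfsgLib.Known.D4Square
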