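import Cfsg.Agent.Lib.Known.D4Square.Cell
import Cfsg.Agent.Lib.Chev.Twist.D4Main

/-!
Every nontrivial element of `³D₄(q)` is a product of two conjugates of one semisimple element.
-/

set_option autoImplicit false
set_option maxRecDepth 20000

namespace CfsgLib.Known.D4Square

open Cfsg.Lie CfsgLib.Chev CfsgLib.Chev.TwD4

universe v

variable {K : Type v} [Field K] [Fintype K]

theorem exists_not_mem_P1 {q : ℕ} (C : Ctx K q) : ∃ z ∈ twistedD4 K q, z ∉ P1 C := by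
  refine ⟨nU chevD4 23 1, n23_mem C (one_pow q), fun h => ?_⟩
  have hn : P1 C ≤ Subgroup.normalizer (Qp C : Set (GL chevD4.Idx K)) :=
    sup_le (range_le_normalizer C) Subgroup.le_normalizer
  have hQ := (Subgroup.mem_normalizer_iff.1 (hn h) _).1 (n23_factors C (one_pow q)).1
  rw [facts.nU_conj_self (lt24 (by norm_num)),
    simple_vals.2.2.2.2.2.2.2.2.2.2.2.2.2.2.2.2.2.2.1] at hQ
  have hmem : xU chevD4 0 (-(1 : K)) ∈ chevD4.borelSubgroup K ⊓ chevD4.negUnipotent K := by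
    refine ⟨facts.pos_le_borel (Qp_le_pos C hQ), ?_⟩
    rw [facts.negUnipotent_eq]
    exact xU_mem_rootClosure (F := K) (P := (· < chevD4.nroots / 2)) (lt24 (by norm_num))
      (by show (0 : ℕ) < chevD4.nroots / 2; rw [simple_vals.2.2.2.2.2.1]; norm_num) _
  rw [facts.borel_inf_neg, Subgroup.mem_bot] at hmem
  exact neg_ne_zero.2 one_ne_zero (facts.xU_eq_one (lt24 (by norm_num)) hmem)

theorem main (p : ℕ) [Fact p.Prime] [CharP K p] {q : ℕ} (hq : IsPrimePow q)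
    (hK : Fintype.card K = q ^ 3) :
    ∃ x : twistedD4 K q, ¬ p ∣ orderOf x ∧ ∀ g : twistedD4 K q, g ≠ 1 →
      ∃ u v : twistedD4 K q, g = (u * x * u⁻¹) * (v * x * v⁻¹) := by
  classical
  obtain ⟨C⟩ := nonempty_ctx (K := K) hq hK
  obtain ⟨X⟩ := exists_xdata C
  refine ⟨⟨Lh C X.p0, Lh_mem C _⟩, fun hdvd => ?_, fun g hg => ?_⟩
  · have h1 : orderOf (⟨Lh C X.p0, Lh_mem C _⟩ : twistedD4 K q) ∣
        (q ^ 2 - 1) * (q ^ 2 + q + 1) :=
      orderOf_dvd_of_pow_eq_one (Subtype.ext X.order)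
    have hp : p.Prime := Fact.out
    obtain ⟨n, -, hn⟩ := FiniteField.card K p
    have hpq : p ∣ q := hp.dvd_of_dvd_pow (n := 3) (by rw [← hK, hn]; exact dvd_pow_self p n.ne_zero)
    have hq1 := C.q_gt
    rcases hp.dvd_mul.1 (hdvd.trans h1) with h | h
    · have h2 := Nat.dvd_sub (dvd_pow hpq two_ne_zero) h
      rw [Nat.sub_sub_self (Nat.one_le_pow _ _ (by omega))] at h2
      exact hp.one_lt.ne' (Nat.dvd_one.1 h2)
    · rw [Nat.dvd_add_right (Nat.dvd_add (dvd_pow hpq two_ne_zero) hpq)] at h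
      exact hp.one_lt.ne' (Nat.dvd_one.1 h)
  · haveI hs : IsSimpleGroup ↥(twistedD4 K q) := C.simple_twisted.1
    let P : Subgroup ↥(twistedD4 K q) := (P1 C).subgroupOf (twistedD4 K q)
    have hcore : P.normalCore = ⊥ := by
      rcases hs.eq_bot_or_eq_top_of_normal _ P.normalCore_normal with h | h
      · exact h
      · exfalso
        obtain ⟨z, hz, hzP⟩ := exists_not_mem_P1 C
        exact hzP (P.normalCore_le (h.ge (Subgroup.mem_top ⟨z, hz⟩)))
    obtain ⟨z, hz⟩ : ∃ z : twistedD4 K q, z * g * z⁻¹ ∉ P := by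
      by_contra h
      push Not at h
      exact hg (Subgroup.mem_bot.1 (hcore ▸ (h : g ∈ P.normalCore)))
    have hz' : (z : GL chevD4.Idx K) * g * (z : GL chevD4.Idx K)⁻¹ ∉ P1 C := fun h => hz h
    obtain ⟨u, hu, v, hv, e⟩ := cov_of C z.2
      (X.cov_not_mem_P1 C (mul_mem (mul_mem z.2 g.2) (inv_mem z.2)) hz')
    exact ⟨⟨u, hu⟩, ⟨v, hv⟩, Subtype.ext e⟩

end CfsgLib.Known.D4Square
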