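import Cfsg.Agent.Lib.Known.G2Square.Cases

/-!
Elements of `SL₂` as products of a conjugate of an element and a conjugate of its inverse.
-/

set_option autoImplicit false

namespace CfsgLib.Known.D4Square

open CfsgLib.Known.G2Square (gl2 up low dd gl_ext trc dtm dtm_ne dtm_eq dtm_mul NS exists_companion_conj
  conj_of_invariants up_inv low_inv dtm_up dtm_low mul_up_entries mul_low_entries exists_ne_ne)

variable {F : Type*} [Field F]

theorem exists_solution [Finite F] {d tau T : F} (htau : tau ≠ 0) (hT : T ≠ 2) :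
    ∃ a c : F, a * a + T * a * c + c * c - tau * a - tau * c + d = 0 := by
  classical
  haveI := Fintype.ofFinite F
  obtain ⟨p, hp⟩ := CharP.exists F
  obtain ⟨f, hpp, hf⟩ := FiniteField.card F p
  open MvPolynomial in
  let P : MvPolynomial (Fin 3) F :=
    C 1 * (X 0 * X 0) + C T * (X 0 * X 1) + C 1 * (X 1 * X 1) - C tau * (X 0 * X 2)
      - C tau * (X 1 * X 2) + C d * (X 2 * X 2)
  have hdeg : P.totalDegree < Fintype.card (Fin 3) := by
    have hXX : ∀ i j : Fin 3, ∀ c : F,
        (MvPolynomial.C c * (MvPolynomial.X i * MvPolynomial.X j) :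
          MvPolynomial (Fin 3) F).totalDegree ≤ 2 := fun i j c => by
      refine (MvPolynomial.totalDegree_mul _ _).trans ?_
      refine (Nat.add_le_add le_rfl (MvPolynomial.totalDegree_mul _ _)).trans ?_
      simp [MvPolynomial.totalDegree_C, MvPolynomial.totalDegree_X]
    refine Nat.lt_succ_of_le ?_
    show P.totalDegree ≤ 2
    refine (MvPolynomial.totalDegree_add _ _).trans (max_le ?_ (hXX _ _ _))
    refine (MvPolynomial.totalDegree_sub _ _).trans (max_le ?_ (hXX _ _ _))
    refine (MvPolynomial.totalDegree_sub _ _).trans (max_le ?_ (hXX _ _ _))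
    refine (MvPolynomial.totalDegree_add _ _).trans (max_le ?_ (hXX _ _ _))
    exact (MvPolynomial.totalDegree_add _ _).trans (max_le (hXX _ _ _) (hXX _ _ _))
  have hdvd : p ∣ Fintype.card { x : Fin 3 → F // MvPolynomial.eval x P = 0 } :=
    char_dvd_card_solutions p hdeg
  have hzero : MvPolynomial.eval (0 : Fin 3 → F) P = 0 := by simp [P]
  obtain ⟨⟨x, hx⟩, hne⟩ : ∃ y : { x : Fin 3 → F // MvPolynomial.eval x P = 0 },
      y ≠ ⟨0, hzero⟩ := by
    by_contra h
    push Not at h
    have h1 : Fintype.card { x : Fin 3 → F // MvPolynomial.eval x P = 0 } = 1 :=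
      Fintype.card_eq_one_iff.2 ⟨_, h⟩
    rw [h1] at hdvd
    exact hpp.one_lt.ne' (Nat.dvd_one.1 hdvd)
  have hev : x 0 * x 0 + T * (x 0 * x 1) + x 1 * x 1 - tau * (x 0 * x 2)
      - tau * (x 1 * x 2) + d * (x 2 * x 2) = 0 := by simpa [P] using hx
  by_cases hz : x 2 = 0
  · rw [hz] at hev
    have hc : x 1 ≠ 0 := by
      intro hc
      have ha : x 0 = 0 := by
        rw [hc] at hev
        exact mul_self_eq_zero.1 (by linear_combination hev)
      exact hne (Subtype.ext (funext fun i => by fin_cases i <;> simp [ha, hc, hz]))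
    obtain ⟨r, hr⟩ : ∃ r, r * x 1 = x 0 := ⟨x 0 / x 1, div_mul_cancel₀ _ hc⟩
    have hq : r * r + T * r + 1 = 0 := by
      refine (mul_eq_zero.1 (show (r * r + T * r + 1) * (x 1 * x 1) = 0 from ?_)).resolve_right
        (mul_ne_zero hc hc)
      rw [← hr] at hev
      linear_combination hev
    obtain ⟨e, he⟩ : ∃ e, (2 * r + T) * e - tau * (r + 1) ≠ 0 := by
      by_cases hrd : r + 1 = 0
      · refine ⟨1, ?_⟩
        rw [hrd, mul_zero, sub_zero, mul_one]
        intro h
        exact hT (by linear_combination h - 2 * hrd)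
      · exact ⟨0, by rw [mul_zero, zero_sub]; exact neg_ne_zero.2 (mul_ne_zero htau hrd)⟩
    obtain ⟨c, hc'⟩ : ∃ c, c * ((2 * r + T) * e - tau * (r + 1)) = -(e * e - tau * e + d) :=
      ⟨_, div_mul_cancel₀ _ he⟩
    exact ⟨r * c + e, c, by linear_combination hc' + c * c * hq⟩
  · refine ⟨x 0 / x 2, x 1 / x 2, ?_⟩
    field_simp
    linear_combination hev

/-- An irreducible matrix. -/
structure SD (F : Type*) [Field F] [Finite F] where
  /-- The determinant. -/
  d : F
  /-- The trace. -/
  tau : F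
  hd : d ≠ 0
  htau : tau ≠ 0
  hdisc : tau * tau - 4 * d ≠ 0
  hev : 1 - tau + d ≠ 0
  hs : (0 : F) * tau - -d * 1 ≠ 0
  order : (gl2 0 (-d) 1 tau hs) ^ (Nat.card F ^ 2 - 1) = 1

variable [Finite F]

theorem exists_sd : Nonempty (SD F) := by
  classical
  haveI := Fintype.ofFinite F
  obtain ⟨p, hp⟩ := CharP.exists F
  obtain ⟨f, hpp, hf⟩ := FiniteField.card F p
  haveI : Fact p.Prime := ⟨hpp⟩
  obtain ⟨q, hq⟩ : ∃ q, q = Nat.card F := ⟨_, rfl⟩
  have hqf : q = p ^ (f : ℕ) := by rw [hq, Nat.card_eq_fintype_card, hf]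
  have hq2 : 2 ≤ q := hq ▸ Finite.one_lt_card
  let K := FiniteField.Extension F p 2
  let ι : F →+* K := algebraMap F K
  haveI : CharP K p := charP_of_injective_ringHom ι.injective p
  let σ : K →+* K := iterateFrobenius K p f
  have hσ : ∀ x, σ x = x ^ q := fun x => by rw [hqf]; exact iterateFrobenius_def p f x
  obtain ⟨a, ha⟩ : ∃ a : Kˣ, orderOf a = q ^ 2 - 1 := by
    haveI := Fintype.ofFinite K
    obtain ⟨g, hg⟩ := IsCyclic.exists_generator (α := Kˣ)
    exact ⟨g, by rw [orderOf_eq_card_of_forall_mem_zpowers hg, Nat.card_units,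
      FiniteField.natCard_extension, hq]⟩
  have h22 : q ^ 2 = q * q := pow_two q
  have h4 : 2 * q ≤ q * q := Nat.mul_le_mul hq2 le_rfl
  have hqq : a ^ (q * q) = a := by
    have e : q * q = (q ^ 2 - 1) + 1 := by omega
    rw [e, pow_succ, ← ha, pow_orderOf_eq_one, one_mul]
  obtain ⟨tau, htau⟩ := CfsgLib.Known.G2Singer.exists_fixed_preimage ι (x := (a : K) + (a : K) ^ q) (by
    rw [← hq, ← hσ, map_add, hσ, hσ, ← pow_mul, ← Units.val_pow_eq_pow_val, ← Units.val_pow_eq_pow_val,
      hqq, add_comm])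
  obtain ⟨d, hd⟩ := CfsgLib.Known.G2Singer.exists_fixed_preimage ι (x := (a : K) * (a : K) ^ q) (by
    rw [← hq, ← hσ, map_mul, hσ, hσ, ← pow_mul, ← Units.val_pow_eq_pow_val, ← Units.val_pow_eq_pow_val,
      hqq, mul_comm])
  have small : ∀ n : ℕ, 0 < n → n < q ^ 2 - 1 → a ^ n ≠ 1 := fun n hn hlt e => by
    have := Nat.le_of_dvd hn (ha ▸ orderOf_dvd_of_pow_eq_one e)
    omega
  have hne : (a : K) ≠ (a : K) ^ q := by
    intro e
    refine small (q - 1) (by omega) (by omega) ?_
    have e' : a ^ q = a := Units.ext (by rw [Units.val_pow_eq_pow_val]; exact e.symm)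
    have e1 : a ^ (q - 1) * a = 1 * a := by
      rw [← pow_succ, Nat.sub_add_cancel (by omega), e', one_mul]
    exact mul_right_cancel e1
  have hd0 : d ≠ 0 := fun e => by
    rw [e, map_zero] at hd
    exact mul_ne_zero a.ne_zero (pow_ne_zero _ a.ne_zero) hd.symm
  have htau0 : tau ≠ 0 := fun e => by
    rw [e, map_zero] at htau
    have e1 : (a : K) ^ q = -(a : K) := eq_neg_of_add_eq_zero_right htau.symm
    by_cases h2 : (2 : K) = 0
    · exact hne (by rw [e1]; linear_combination (a : K) * h2)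
    have hq3 : 3 ≤ q := by
      by_contra h
      have hqe : q = 2 := by omega
      have hp2 : p = 2 := by
        have h' := hqe ▸ hqf
        exact (Nat.prime_dvd_prime_iff_eq hpp Nat.prime_two).1 (h' ▸ dvd_pow_self p f.ne_zero)
      subst hp2
      exact h2 (CharP.cast_eq_zero K 2)
    have h9 : 3 * q ≤ q * q := Nat.mul_le_mul hq3 le_rfl
    refine small (2 * (q - 1)) (by omega) (by omega) ?_
    have e' : a ^ q = -a := Units.ext (by rw [Units.val_pow_eq_pow_val, Units.val_neg]; exact e1)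
    have e2 : a ^ (2 * (q - 1)) * a ^ 2 = 1 * a ^ 2 := by
      rw [← pow_add, show 2 * (q - 1) + 2 = q * 2 by omega, pow_mul, e', neg_sq, one_mul]
    exact mul_right_cancel e2
  have hdisc : tau * tau - 4 * d ≠ 0 := fun e => by
    have h1 := congrArg ι e
    rw [map_sub, map_mul, map_mul, map_ofNat, htau, hd, map_zero] at h1
    refine hne (sub_eq_zero.1 (mul_self_eq_zero.1 ?_))
    linear_combination h1
  have hev : 1 - tau + d ≠ 0 := fun e => by
    have h1 := congrArg ι e
    rw [map_add, map_sub, map_one, htau, hd, map_zero] at h1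
    have h2 : (1 - (a : K)) * (1 - (a : K) ^ q) = 0 := by linear_combination h1
    rcases mul_eq_zero.1 h2 with h | h
    · have ha1 : a = 1 := Units.ext (sub_eq_zero.1 h).symm
      exact small 1 one_pos (by omega) (by rw [pow_one, ha1])
    · refine small q (by omega) (by omega) (Units.ext ?_)
      rw [Units.val_pow_eq_pow_val, Units.val_one]
      exact (sub_eq_zero.1 h).symm
  have hs : (0 : F) * tau - -d * 1 ≠ 0 := by simpa using hd0
  refine ⟨⟨d, tau, hd0, htau0, hdisc, hev, hs, ?_⟩⟩
  set s := gl2 0 (-d) 1 tau hs with hsdef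
  let T : GL (Fin 2) K := gl2 (-(a : K) ^ q) (-(a : K)) 1 1 (by
    rw [show -(a : K) ^ q * 1 - -(a : K) * 1 = (a : K) - (a : K) ^ q by ring]
    exact sub_ne_zero.2 hne)
  let D : GL (Fin 2) K := dd a (a ^ q)
  have hsT : Matrix.GeneralLinearGroup.map ι s = T * D * T⁻¹ := by
    rw [eq_mul_inv_iff_mul_eq]
    refine gl_ext ?_ ?_ ?_ ?_ <;>
      simp [s, T, D, dd, Matrix.mul_apply, Fin.sum_univ_two, htau, hd] <;> ring
  have hinj : Function.Injective (Matrix.GeneralLinearGroup.map (n := Fin 2) ι) := fun x y h =>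
    Units.ext (Matrix.map_injective ι.injective (congrArg Units.val h))
  refine hinj ?_
  rw [map_pow, map_one, hsT, conj_pow]
  have hDN : D ^ (q ^ 2 - 1) = 1 := by
    refine Units.ext ?_
    rw [Units.val_pow_eq_pow_val]
    show (!![(a : K), 0; 0, ((a ^ q : Kˣ) : K)]) ^ (q ^ 2 - 1) = 1
    rw [show (!![(a : K), 0; 0, ((a ^ q : Kˣ) : K)]) = Matrix.diagonal ![(a : K), ((a ^ q : Kˣ) : K)]
      by ext i j; fin_cases i <;> fin_cases j <;> simp, Matrix.diagonal_pow, ← Matrix.diagonal_one]
    congr 1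
    have haN : a ^ (q ^ 2 - 1) = 1 := ha ▸ pow_orderOf_eq_one a
    funext i
    fin_cases i
    · simp [← Units.val_pow_eq_pow_val, haN]
    · simp [← Units.val_pow_eq_pow_val, ← pow_mul, pow_mul', haN]
  rw [← hq, hDN, mul_one, mul_inv_cancel]

/-- The element. -/
noncomputable def SD.s (S : SD F) : GL (Fin 2) F := gl2 0 (-S.d) 1 S.tau S.hs

/-- The inverse of the element. -/
noncomputable def SD.t (S : SD F) : GL (Fin 2) F :=
  gl2 (S.tau / S.d) 1 (-1 / S.d) 0 (by simpa using div_ne_zero (one_ne_zero : (1 : F) ≠ 0) S.hd)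

theorem SD.s_inv (S : SD F) : S.s⁻¹ = S.t := by
  refine inv_eq_of_mul_eq_one_right ?_
  have := S.hd
  refine gl_ext ?_ ?_ ?_ ?_ <;>
    simp [SD.s, SD.t, Matrix.mul_apply, Fin.sum_univ_two] <;> field_simp <;> ring

theorem ns_of_disc {A : GL (Fin 2) F} (h : trc A * trc A - 4 * dtm A ≠ 0) : NS A := by
  by_contra h'
  simp only [NS, not_or, not_not] at h'
  obtain ⟨h1, h2, h3⟩ := h'
  refine h ?_
  rw [trc, dtm, h1, h2, h3]
  ring

theorem SD.conj_s (S : SD F) {A : GL (Fin 2) F} (ht : trc A = S.tau) (hd : dtm A = S.d) :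
    ∃ P : GL (Fin 2) F, A = P * S.s * P⁻¹ := by
  have e1 : trc S.s = S.tau := by simp [trc, SD.s]
  have e2 : dtm S.s = S.d := by simp [dtm, SD.s]
  exact conj_of_invariants (ns_of_disc (by rw [ht, hd]; exact S.hdisc))
    (ns_of_disc (by rw [e1, e2]; exact S.hdisc)) (ht.trans e1.symm) (hd.trans e2.symm)

theorem SD.conj_inv (S : SD F) {A : GL (Fin 2) F} (ht : trc A = S.tau / S.d)
    (hd : dtm A = 1 / S.d) : ∃ P : GL (Fin 2) F, A = P * S.s⁻¹ * P⁻¹ := by
  have e1 : trc S.t = S.tau / S.d := by simp [trc, SD.t]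
  have e2 : dtm S.t = 1 / S.d := by simp [dtm, SD.t, div_eq_mul_inv]
  have key : S.tau / S.d * (S.tau / S.d) - 4 * (1 / S.d) ≠ 0 := fun e => S.hdisc (by
    have := S.hd
    field_simp at e
    linear_combination e)
  rw [S.s_inv]
  exact conj_of_invariants (ns_of_disc (by rw [ht, hd]; exact key))
    (ns_of_disc (by rw [e1, e2]; exact key)) (ht.trans e1.symm) (hd.trans e2.symm)

/-- The matrices which are covered. -/
def Good (A : GL (Fin 2) F) : Prop :=
  dtm A = 1 ∧ ((trc A ≠ 2 ∧ NS A) ∨ A = 1)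

theorem SD.good_prod (S : SD F) {A : GL (Fin 2) F} (hA : Good A) :
    ∃ P Q : GL (Fin 2) F, A = (P * S.s * P⁻¹) * (Q * S.s⁻¹ * Q⁻¹) := by
  obtain ⟨hdet, h | rfl⟩ := hA
  · obtain ⟨hT, hns⟩ := h
    obtain ⟨a, c, hac⟩ := exists_solution (d := S.d) S.htau hT
    set b : F := c + a * trc A - S.tau with hb
    have hd1 : a * (S.tau - a) - b * c = S.d := by rw [hb]; linear_combination -hac
    let S1 : GL (Fin 2) F := gl2 a b c (S.tau - a) (hd1 ▸ S.hd)
    let C : GL (Fin 2) F := gl2 0 (-dtm A) 1 (trc A) (by simpa using dtm_ne A)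
    obtain ⟨R, hR⟩ := exists_companion_conj hns (C := C) rfl rfl rfl rfl
    have ht1 : trc S1 = S.tau := by simp [trc, S1]
    have hD1 : dtm S1 = S.d := by simp [dtm, S1]; linear_combination hd1
    let S2 : GL (Fin 2) F := gl2 (-b / S.d) ((-(S.tau - a) - b * trc A) / S.d) (a / S.d)
      ((c + a * trc A) / S.d) (by
        have hd0 := S.hd
        rw [div_mul_div_comm, div_mul_div_comm, ← sub_div]
        refine div_ne_zero ?_ (mul_ne_zero hd0 hd0)
        intro e
        exact hd0 (by linear_combination e - hd1))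
    have hC : S1 * S2 = C := by
      have hd0 := S.hd
      refine gl_ext ?_ ?_ ?_ ?_ <;>
        simp [S1, S2, C, hdet, Matrix.mul_apply, Fin.sum_univ_two] <;> field_simp
      · ring
      · linear_combination -hd1
      · linear_combination hd1
      · linear_combination trc A * hd1
    have hD2 : dtm S2 = 1 / S.d := by
      have := congrArg dtm hC
      rw [dtm_mul, hD1, show dtm C = dtm A by simp [dtm, C], hdet] at this
      rw [eq_div_iff S.hd]
      linear_combination this
    have ht2 : trc S2 = S.tau / S.d := by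
      have hd0 := S.hd
      simp [trc, S2]
      field_simp
      rw [hb]
      simp [trc]
    obtain ⟨P, hP⟩ := S.conj_s ht1 hD1
    obtain ⟨Q, hQ⟩ := S.conj_inv ht2 hD2
    refine ⟨R * P, R * Q, ?_⟩
    rw [hR, ← hC, hP, hQ]
    group
  · exact ⟨1, 1, by group⟩

/-- The cases in which one unipotent family may be applied on the right. -/
theorem cases_single {P : GL (Fin 2) F → Prop} (hgood : ∀ A, Good A → P A)
    (h : (∀ A c, P (A * up c) → P A) ∨ ∀ A c, P (A * low c) → P A) {A : GL (Fin 2) F}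
    (hA : dtm A = 1) : P A := by
  have diag : ∀ {a b : F}, a * b = 1 → a + b = 2 → a = 1 ∧ b = 1 := fun {a b} hab h => by
    have h1 : a = 1 := sub_eq_zero.1 (mul_self_eq_zero.1 (by linear_combination -hab + a * h))
    exact ⟨h1, by linear_combination h - h1⟩
  have key : (∃ c, Good (A * up c)) ∧ ∃ c, Good (A * low c) := by
    have hu : ∀ c, dtm (A * up c) = 1 := fun c => by rw [dtm_mul, hA, dtm_up, mul_one]
    have hl : ∀ c, dtm (A * low c) = 1 := fun c => by rw [dtm_mul, hA, dtm_low, mul_one]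
    constructor
    · by_cases hg : A 1 0 = 0
      · have had : A 0 0 * A 1 1 = 1 := by rw [← hA, dtm, hg, mul_zero, sub_zero]
        have ha : A 0 0 ≠ 0 := left_ne_zero_of_mul (had ▸ one_ne_zero)
        by_cases ht : A 0 0 + A 1 1 = 2
        · obtain ⟨h1, h2⟩ := diag had ht
          refine ⟨-A 0 1 / A 0 0, hu _, .inr ?_⟩
          obtain ⟨e1, e2, e3, e4⟩ := mul_up_entries A (-A 0 1 / A 0 0)
          refine gl_ext ?_ ?_ ?_ ?_
          · rw [e1, h1]; simp
          · rw [e2, mul_div_cancel₀ _ ha, neg_add_cancel]; simp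
          · rw [e3, hg]; simp
          · rw [e4, hg, zero_mul, zero_add, h2]; simp
        · obtain ⟨e1, e2, e3, e4⟩ := mul_up_entries A ((1 - A 0 1) / A 0 0)
          refine ⟨(1 - A 0 1) / A 0 0, hu _, .inl ⟨?_, .inr (.inl ?_)⟩⟩
          · rw [trc, e1, e4, hg, zero_mul, zero_add]; exact ht
          · rw [e2, mul_div_cancel₀ _ ha, sub_add_cancel]; exact one_ne_zero
      · obtain ⟨e1, e2, e3, e4⟩ := mul_up_entries A ((3 - A 0 0 - A 1 1) / A 1 0)
        refine ⟨(3 - A 0 0 - A 1 1) / A 1 0, hu _, .inl ⟨?_, .inl (by rw [e3]; exact hg)⟩⟩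
        rw [trc, e1, e4, mul_div_cancel₀ _ hg]
        intro e
        exact one_ne_zero (show (1 : F) = 0 by linear_combination e)
    · by_cases hg : A 0 1 = 0
      · have had : A 0 0 * A 1 1 = 1 := by rw [← hA, dtm, hg, zero_mul, sub_zero]
        have ha : A 1 1 ≠ 0 := right_ne_zero_of_mul (had ▸ one_ne_zero)
        by_cases ht : A 0 0 + A 1 1 = 2
        · obtain ⟨h1, h2⟩ := diag had ht
          refine ⟨-A 1 0 / A 1 1, hl _, .inr ?_⟩
          obtain ⟨e1, e2, e3, e4⟩ := mul_low_entries A (-A 1 0 / A 1 1)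
          refine gl_ext ?_ ?_ ?_ ?_
          · rw [e1, hg, zero_mul, add_zero, h1]; simp
          · rw [e2, hg]; simp
          · rw [e3, mul_div_cancel₀ _ ha, add_neg_cancel]; simp
          · rw [e4, h2]; simp
        · obtain ⟨e1, e2, e3, e4⟩ := mul_low_entries A ((1 - A 1 0) / A 1 1)
          refine ⟨(1 - A 1 0) / A 1 1, hl _, .inl ⟨?_, .inl ?_⟩⟩
          · rw [trc, e1, e4, hg, zero_mul, add_zero]; exact ht
          · rw [e3, mul_div_cancel₀ _ ha, add_sub_cancel]; exact one_ne_zero
      · obtain ⟨e1, e2, e3, e4⟩ := mul_low_entries A ((3 - A 0 0 - A 1 1) / A 0 1)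
        refine ⟨(3 - A 0 0 - A 1 1) / A 0 1, hl _, .inl ⟨?_, .inr (.inl (by rw [e2]; exact hg))⟩⟩
        rw [trc, e1, e4, mul_div_cancel₀ _ hg]
        intro e
        exact one_ne_zero (show (1 : F) = 0 by linear_combination e)
  rcases h with h | h
  · obtain ⟨c, hc⟩ := key.1
    exact h A c (hgood _ hc)
  · obtain ⟨c, hc⟩ := key.2
    exact h A c (hgood _ hc)

/-- The cases in which a unipotent family is applied on both sides. -/
theorem cases_pair {P : GL (Fin 2) F → Prop} {k k' : F} (hkk : k' * k = 1)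
    (hgood : ∀ A, Good A → P A)
    (h6 : ∀ A c, P (low (k * c) * A * up (-c)) → P A)
    (h5 : ∀ A c, P (up (k' * c) * A * low (-c)) → P A)
    (hfall : (2 : F) = 0 → ∀ B : GL (Fin 2) F, dtm B = 1 → (∀ (C : GL (Fin 2) F) (u : F), u ≠ 0 →
      dtm C = 1 → C 0 0 = u * B 1 0 → C 0 1 = u * B 1 1 → C 1 0 = B 0 0 / u → C 1 1 = B 0 1 / u →
      Good C) → P B)
    {A : GL (Fin 2) F} (hA : dtm A = 1) : P A := by
  have hk : k ≠ 0 := fun e => one_ne_zero (by rw [← hkk, e, mul_zero] : (1 : F) = 0)
  have hk' : k' ≠ 0 := fun e => one_ne_zero (by rw [← hkk, e, zero_mul] : (1 : F) = 0)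
  have mU : ∀ (B : GL (Fin 2) F) (c : F), dtm B = 1 →
      (∀ C : GL (Fin 2) F, dtm C = 1 → C 0 0 = B 0 0 → C 0 1 = B 0 1 - B 0 0 * c →
        C 1 0 = k * c * B 0 0 + B 1 0 →
        C 1 1 = k * c * (B 0 1 - B 0 0 * c) + B 1 1 - B 1 0 * c → P C) →
      P B := by
    intro B c hB h
    refine h6 B c (h _ ?_ ?_ ?_ ?_ ?_)
    · rw [dtm_mul, dtm_mul, dtm_low, dtm_up, hB, one_mul, mul_one]
    all_goals
      simp [up, low, Matrix.mul_apply, Matrix.vecMul, dotProduct, Fin.sum_univ_two]
    all_goals ring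
  have mL : ∀ (B : GL (Fin 2) F) (e : F), dtm B = 1 →
      (∀ C : GL (Fin 2) F, dtm C = 1 →
        C 0 0 = B 0 0 + k' * e * B 1 0 - (B 0 1 + k' * e * B 1 1) * e →
        C 0 1 = B 0 1 + k' * e * B 1 1 → C 1 0 = B 1 0 - B 1 1 * e → C 1 1 = B 1 1 → P C) →
      P B := by
    intro B e hB h
    refine h5 B e (h _ ?_ ?_ ?_ ?_ ?_)
    · rw [dtm_mul, dtm_mul, dtm_low, dtm_up, hB, one_mul, mul_one]
    all_goals
      simp [up, low, Matrix.mul_apply, Matrix.vecMul, dotProduct, Fin.sum_univ_two]
    all_goals ring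
  have minus : ∀ B : GL (Fin 2) F, dtm B = 1 → B 0 0 = -1 → B 1 1 = -1 → B 0 1 = 0 →
      B 1 0 = 0 → (4 : F) ≠ 0 → P B := by
    intro B hB b00 b11 b01 b10 h4
    by_cases hex : ∃ c : F, c ≠ 0 ∧ k * c * c ≠ 4
    · obtain ⟨c, hc, hc4⟩ := hex
      refine mU B c hB fun C hC e00 e01 e10 e11 => hgood _ ⟨hC, .inl ⟨?_, .inr (.inl ?_)⟩⟩
      · rw [trc, e00, e11, b00, b01, b10, b11]
        intro e
        exact hc4 (by linear_combination e)
      · rw [e01, b00, b01]
        simpa using hc
    · push Not at hex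
      have h2 : (2 : F) ≠ 0 := fun e => h4 (by linear_combination (2 : F) * e)
      have hk4 : k = 4 := by simpa using hex 1 one_ne_zero
      have h12 := hex 2 h2
      rw [hk4] at h12
      have h3' : (3 : F) = 0 :=
        (mul_eq_zero.1 (show (4 : F) * 3 = 0 by linear_combination h12)).resolve_left h4
      have hk1 : k = 1 := by linear_combination hk4 + h3'
      have hk1' : k' = 1 := by rw [hk1, mul_one] at hkk; exact hkk
      refine mU B 1 hB fun C hC e00 e01 e10 e11 => ?_
      refine mL C 1 hC fun E hE f00 f01 f10 f11 => hgood _ ⟨hE, .inl ⟨?_, .inr (.inl ?_)⟩⟩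
      · rw [trc, f00, f11, e00, e01, e10, e11, b00, b01, b10, b11, hk1, hk1']
        intro e
        exact h2 (by linear_combination -e - h3')
      · rw [f01, e01, e11, b00, b01, b10, b11, hk1, hk1']
        intro e
        exact one_ne_zero (show (1 : F) = 0 by linear_combination e)
  have lower : ∀ B : GL (Fin 2) F, dtm B = 1 → B 0 1 = 0 → P B := by
    intro B hB b01
    have had : B 0 0 * B 1 1 = 1 := by rw [← hB, dtm, b01, zero_mul, sub_zero]
    by_cases ht : B 0 0 + B 1 1 = 2
    · have b00 : B 0 0 = 1 :=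
        sub_eq_zero.1 (mul_self_eq_zero.1 (by linear_combination -had + B 0 0 * ht))
      have b11 : B 1 1 = 1 := by linear_combination ht - b00
      by_cases b10 : B 1 0 = 0
      · exact hgood _ ⟨hB, .inr (gl_ext (by simp [b00]) (by simp [b01]) (by simp [b10])
          (by simp [b11]))⟩
      · by_cases hq : ∃ c : F, c ≠ 0 ∧ c ≠ -B 1 0 / k
        · obtain ⟨c, hc, hc'⟩ := hq
          refine mU B c hB fun C hC e00 e01 e10 e11 => hgood _ ⟨hC, .inl ⟨?_, .inr (.inl ?_)⟩⟩
          · rw [trc, e00, e11, b00, b01, b11]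
            intro e
            apply hc'
            rw [eq_div_iff hk]
            exact mul_left_cancel₀ hc (by linear_combination -e)
          · rw [e01, b00, b01]
            simpa using hc
        · push Not at hq
          -- two elements only
          have h1 := hq 1 one_ne_zero
          have h2 : (2 : F) = 0 := by
            by_contra h2
            have := hq 2 h2
            exact one_ne_zero (show (1 : F) = 0 by linear_combination this - h1)
          refine hfall h2 B hB fun C u hu hC e00 e01 e10 e11 => ⟨hC, .inl ⟨?_, .inl ?_⟩⟩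
          · rw [trc, e00, e11, b01, zero_div, add_zero, h2]
            exact mul_ne_zero hu b10
          · rw [e10, b00]
            exact div_ne_zero one_ne_zero hu
    · by_cases hns : NS B
      · exact hgood _ ⟨hB, .inl ⟨ht, hns⟩⟩
      · simp only [NS, not_or, not_not] at hns
        obtain ⟨b10, -, beq⟩ := hns
        have hneg : B 0 0 = -1 := by
          rw [← beq] at had ht
          rcases mul_self_eq_one_iff.1 had with h | h
          · exact absurd (by rw [h]; norm_num) ht
          · exact h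
        refine minus B hB hneg (beq ▸ hneg) b01 b10 fun e => ht ?_
        rw [← beq, hneg]
        linear_combination -e
  have corner : ∀ B : GL (Fin 2) F, dtm B = 1 → B 0 0 ≠ 0 → P B := by
    intro B hB ha
    refine mU B (B 0 1 / B 0 0) hB fun C hC e00 e01 e10 e11 => lower C hC ?_
    rw [e01, mul_div_cancel₀ _ ha, sub_self]
  by_cases ha : A 0 0 = 0
  · have hbg : A 1 0 ≠ 0 := fun e => dtm_ne A (by rw [dtm, ha, e]; ring)
    by_cases hkb : k * A 0 1 - A 1 0 = 0
    · by_cases hd2 : A 1 1 = 2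
      · by_cases hd0 : A 1 1 = 0
        · have h2 : (2 : F) = 0 := hd2.symm.trans hd0
          refine hfall h2 A hA fun C u hu hC e00 e01 e10 e11 => ?_
          rw [hd0, mul_zero] at e01
          rw [ha, zero_div] at e10
          by_cases ht : C 0 0 + C 1 1 = 2
          · have c00 : C 0 0 = 1 := by
              refine sub_eq_zero.1 (mul_self_eq_zero.1 ?_)
              rw [dtm, e01, zero_mul, sub_zero] at hC
              linear_combination -hC + C 0 0 * ht
            have c11 : C 1 1 = 1 := by linear_combination ht - c00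
            exact ⟨hC, .inr (gl_ext (by simp [c00]) (by simp [e01]) (by simp [e10]) (by simp [c11]))⟩
          · refine ⟨hC, .inl ⟨ht, .inr (.inr fun e => ht ?_)⟩⟩
            rw [e]
            linear_combination C 1 1 * h2 - h2
        · refine mL A 1 hA fun C hC e00 e01 e10 e11 => corner C hC ?_
          rw [e00, ha]
          intro e
          refine hd0 ((mul_eq_zero.1 (show k' * A 1 1 = 0 from ?_)).resolve_left hk')
          linear_combination -e + A 0 1 * hkk - k' * hkb
      · exact hgood _ ⟨hA, .inl ⟨by rw [trc, ha, zero_add]; exact hd2, .inl hbg⟩⟩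
    · refine mU A ((3 - A 1 1) / (k * A 0 1 - A 1 0)) hA
        fun C hC e00 e01 e10 e11 => hgood _ ⟨hC, .inl ⟨?_, .inl ?_⟩⟩
      · rw [trc, e00, e11, ha]
        intro e
        have := div_mul_cancel₀ (3 - A 1 1) hkb
        exact one_ne_zero (show (1 : F) = 0 by linear_combination e - this)
      · rw [e10, ha, mul_zero, zero_add]; exact hbg
  · exact corner A hA ha

end CfsgLib.Known.D4Square
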